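import Cfsg.Agent.T3F.Cz

/-! More finite facts about the model `G` (all checked by computer).  See the head of `Defs.lean`, `Cz.lean`
(use cosets of `Z1`, `Z2`, `J` to shorten checks over all of `G`). -/

set_option autoImplicit false
set_option maxRecDepth 100000
set_option Elab.async false

namespace Cfsg.Agent.T3F

open Cfsg.Agent.Comp Cfsg.Agent.X32 Cfsg.Agent.Fus Cfsg.FusionSystem
open scoped commutatorElement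

/-- the elements commuting with `b` modulo `L k` -/
noncomputable def f2K (k : ℕ) (b : G) : Subgroup G :=
  (Subgroup.centralizer {(b : G ⧸ L k)}).comap (QuotientGroup.mk' (L k))

theorem mem_f2K {k : ℕ} {a b : G} : a ∈ f2K k b ↔ ⁅a, b⁆ ∈ L k := by
  rw [f2K, Subgroup.mem_comap, Subgroup.mem_centralizer_singleton_iff, ← commutatorElement_eq_one_iff_mul_comm,
    ← QuotientGroup.eq_one_iff]
  rfl

theorem f2K_symm {k : ℕ} {a b : G} (h : a ∈ f2K k b) : b ∈ f2K k a := by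
  rw [mem_f2K] at h ⊢
  rw [← commutatorElement_inv]
  exact inv_mem h

theorem f2K_of_Cz {k : ℕ} {a b : G} (h : a ∈ Cz b) : a ∈ f2K k b := by
  rw [mem_f2K, commutatorElement_eq_one_iff_mul_comm.2 (mem_Cz.1 h)]
  exact one_mem _

theorem f2K_self {k : ℕ} {a : G} (h : a ∈ L k) (b : G) : a ∈ f2K k b := by
  rw [mem_f2K, commutatorElement_def, mul_assoc, mul_assoc, ← mul_assoc b]
  exact mul_mem h ((normal_L k).conj_mem _ (inv_mem h) b)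

theorem f2_JK {b : G} (hb : b ∈ E1) : J ≤ f2K 2 b := fun _ hj => mem_f2K.2 (comm_J hj hb)

theorem f2_JC {b : G} (hb : b ∈ J) : J ≤ Cz b := fun _ hj => mem_Cz.2 (J_comm hj hb)

instance bdf2K (k : ℕ) (a b : G) {t : Bool} [h : BD (⁅a, b⁆ ∈ L k) t] : BD (a ∈ f2K k b) t := ⟨h.h.trans mem_f2K.symm⟩

theorem f2_low (a : G) : el (a.v % 243) ∈ J := el_mem_L (Nat.mod_lt _ (by norm_num))

theorem f2_top {H : Subgroup G} (hH : J ≤ H) {a : G} : el (243 * (a.v / 243)) ∈ H ↔ a ∈ H := by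
  conv_rhs => rw [← spl243 a]
  exact (H.mul_mem_cancel_right (hH (f2_low a))).symm

theorem f2_red {p : G → Prop} (hp : ∀ a, ∀ j ∈ J, p a → p (a * j)) {H : Subgroup G} (hH : J ≤ H)
    (h : AllN 243 fun q => el (243 * q) ∈ H → p (el (243 * q))) {a : G} (ha : a ∈ H) : p a := by
  have := hp _ _ (f2_low a) (h _ (by have := v_lt a; omega) ((f2_top hH).2 ha))
  rwa [spl243] at this

theorem f2_le {H K : Subgroup G} (hH : J ≤ H) (hK : J ≤ K) (h : AllN 243 fun q => el (243 * q) ∈ H → el (243 * q) ∈ K) :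
    H ≤ K := fun _ ha => f2_red (p := (· ∈ K)) (fun _ _ hj h => mul_mem h (hK hj)) hH h ha

theorem f2_cos {g : G} {k : ℕ} (hk : 5 ≤ k) (a j : G) (hj : j ∈ J) (h : a ∈ L k ∨ g * a ∈ L k ∨ g⁻¹ * a ∈ L k) :
    a * j ∈ L k ∨ g * (a * j) ∈ L k ∨ g⁻¹ * (a * j) ∈ L k := by
  have := L_mono hk hj
  simp only [← mul_assoc]
  exact h.imp (mul_mem · this) (Or.imp (mul_mem · this) (mul_mem · this))

theorem f2_gen {g a : G} {K T : Subgroup G} (h : a ∈ K ∨ g * a ∈ K ∨ g⁻¹ * a ∈ K) (hg : g ∈ T) (hK : K ≤ T) : a ∈ T :=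
  h.elim (hK ·) (Or.elim · (fun h => (T.mul_mem_cancel_left hg).1 (hK h))
    fun h => (T.mul_mem_cancel_left (inv_mem hg)).1 (hK h))

/-- conjugacy with a witness in a list -/
def f2W (l : List ℕ) (x r : G) : Prop := ∃ s ∈ l, x * el s = el s * r

instance bdf2W (l : List ℕ) (x r : G) {m n : ℕ} [TG.EV x m] [TG.EV r n] : BD (f2W l x r)
    (force m fun m => force n fun n => anyL l fun s => Nat.beq (FT.mu m (el s).v) (FT.mu (el s).v n)) := ⟨by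
  rw [force_eq, force_eq, ← TG.EV.h (a := x), ← TG.EV.h (a := r)]
  simp only [anyL_iff, beq_iff, f2W, TG.ext_iff]
  rfl⟩

theorem f2W.cj {l : List ℕ} {x r : G} (h : f2W l x r) : Cj x r :=
  let ⟨s, _, e⟩ := h
  ⟨(el s)⁻¹, .inl (by rw [inv_inv, mul_assoc, e, inv_mul_cancel_left])⟩

theorem f2_z3J : z3 ∈ J := BD.of (by decide +kernel)

theorem f2_R2J : ∀ r ∈ R2, el r ∈ J := BD.of (by decide +kernel)

theorem f2_Vc {v : G} (h : v ∈ V) : ∃ i ∈ [0, 1, 2], ∃ j ∈ [0, 1, 2], ∃ u ∈ J, v = el 2916 ^ i * el 6849 ^ j * u := by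
  obtain ⟨i, hi, j, hj, k, -, w, hw, e⟩ := V_cos h
  exact ⟨i, hi, j, hj, _, mul_mem (pow_mem (el_mem_L (by norm_num)) k) (L_mono (by norm_num) hw), e.trans (mul_assoc _ _ _)⟩

theorem f2_cmJ {a u : G} (t : G) (ha : a ∈ J) (hu : u ∈ J) : ⁅a, t * u⁆ = ⁅a, t⁆ := by
  calc ⁅a, t * u⁆ = a * t * (u * a⁻¹) * u⁻¹ * t⁻¹ := by rw [commutatorElement_def]; group
    _ = ⁅a, t⁆ := by rw [J_comm hu (inv_mem ha), commutatorElement_def]; group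

theorem f2_cube (σ : MulAut G) {x : G} (h1 : x⁻¹ * σ x ∈ J) (h2 : σ (x⁻¹ * σ x) = x⁻¹ * σ x) : (σ ^ 3) x = x := by
  obtain ⟨a, e⟩ : ∃ a, σ x = x * a := ⟨x⁻¹ * σ x, by simp⟩
  rw [e, inv_mul_cancel_left] at h1 h2
  rw [pow_succ, pow_two, MulAut.mul_apply, MulAut.mul_apply, e, map_mul, h2, e, map_mul, map_mul, h2, e, mul_assoc, mul_assoc,
    ← pow_three, J_pow h1, mul_one]

theorem f2_dy {u e : G} (hu : u ∈ J) (he : e ∈ E1) : ⁅u, y⁆⁻¹ * ⁅u, y * e⁆ ∈ Z2 := by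
  have := (normal_L 2).conj_mem _ (comm_J hu he) y
  convert this using 1
  simp only [commutatorElement_def]
  group

theorem f2_aut (γ : MulAut G) (h1 : γ z1 = z1) (h2 : γ z2 = z2) : (∀ w ∈ Z2, γ w = w) ∧ (∀ a ∈ E1, γ a ∈ E1) ∧
    (∀ a ∈ J, γ a ∈ J) ∧ (∃ e ∈ E1, γ y = y * e) ∧ (∀ a ∈ Z3, γ a ∈ Z3) ∧ ∀ a ∈ Z4, γ a ∈ Z4 := by
  have c : (∀ g ∈ pcs, g ∈ Z2 → g = z1 ∨ g = z2) ∧ (∀ g ∈ pcs, g ∈ Z3 → g ∈ Z2 ∨ g = z3) ∧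
      (∀ g ∈ pcs, g ∈ Z4 → g ∈ Z3 ∨ g = z4) ∧ z2 ∈ Z2 ∧ z2 ∉ Z1 ∧ z4 ∈ J ∧ ⁅z2, y⁆ ∈ Z2 ∧ ⁅z3, y⁆ ∈ Z2 ∧ ⁅z4, y⁆ ∈ Z3 ∧
      ∀ u ∈ J, (⁅u, y⁆ ∈ Z2 → u ∈ Z3) ∧ (⁅u, y⁆ ∈ Z3 → u ∈ Z4) := BD.of (by decide +kernel)
  obtain ⟨g2, g3, g4, b2, b2', b4, r2, r3, r4, c1⟩ := c
  have cz := Cz_Z2 b2 b2'
  have fx : ∀ w ∈ Z2, γ w = w := fun w hw => by
    have : Z2 ≤ γ.toMonoidHom.eqLocus (MonoidHom.id G) := le_of_gens fun g hg hk => by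
      rcases g2 g hg hk with rfl | rfl
      exacts [h1, h2]
    exact this hw
  have mE : ∀ a, γ a ∈ E1 ↔ a ∈ E1 := fun a => by
    rw [← cz, mem_Cz, mem_Cz, ← γ.injective.eq_iff (a := a * z2), map_mul, map_mul, h2]
  have mJ : ∀ a ∈ J, γ a ∈ J := fun a ha => mem_J_of ((mE a).2 (L_mono (by norm_num) ha)) fun b hb => by
    obtain ⟨b, rfl⟩ := γ.surjective b
    have := comm_J ha ((mE b).1 hb)
    rwa [← map_commutatorElement, fx _ this]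
  have he : y⁻¹ * γ y ∈ E1 := by
    have := fx _ r2
    rw [map_commutatorElement, h2] at this
    rw [← cz, mem_Cz]
    calc y⁻¹ * γ y * z2 = y⁻¹ * (⁅z2, γ y⁆⁻¹ * z2 * γ y) := by rw [commutatorElement_def]; group
      _ = z2 * (y⁻¹ * γ y) := by rw [this, commutatorElement_def]; group
  have dy : ∀ k, 2 ≤ k → ∀ u ∈ J, γ ⁅u, y⁆ ∈ L k → ⁅γ u, y⁆ ∈ L k := fun k hk u hu h => by
    have := L_mono hk (f2_dy (mJ u hu) he)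
    rw [mul_inv_cancel_left, ← map_commutatorElement] at this
    exact inv_mem_iff.1 (((L k).mul_mem_cancel_right h).1 this)
  have m3 : Z3 ≤ Z3.comap γ.toMonoidHom := le_of_gens fun g hg hk => by
    change γ g ∈ Z3
    rcases g3 g hg hk with h | rfl
    · rw [fx g h]; exact hk
    · exact (c1 _ (mJ _ f2_z3J)).1 (dy 2 le_rfl _ f2_z3J (by rw [fx _ r3]; exact r3))
  have m4 : Z4 ≤ Z4.comap γ.toMonoidHom := le_of_gens fun g hg hk => by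
    change γ g ∈ Z4
    rcases g4 g hg hk with h | rfl
    · exact L_mono (by norm_num) (m3 h)
    · exact (c1 _ (mJ _ b4)).2 (dy 3 (by norm_num) _ b4 (m3 r4))
  exact ⟨fx, fun a => (mE a).2, mJ, ⟨_, he, by simp⟩, m3, m4⟩

theorem f2_c1 : z2 ∈ Z3 ∧ z3 ∈ Z3 ∧ z4 ∈ Z4 ∧ j5 ∈ J ∧ e1 ∈ C3 ∧ e1 ^ 3 = z1 ^ 2 ∧ ⁅z4, e1⁆ = z1 ∧ ⁅z4, y⁆ = z3 ^ 2 ∧
    ⁅j5, y⁆ = z4 * z3 ^ 2 := BD.of (by decide +kernel)

theorem f2_c2 : (∀ a ∈ C3, a ^ 3 = z1 ^ 2 → e1⁻¹ * a ∈ C4) ∧ (∀ u ∈ Z4, ⁅u, e1⁆ = z1 → z4⁻¹ * u ∈ Z3) ∧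
    ∀ u ∈ Z4, z4⁻¹ * u ∈ Z3 → ⁅u, y⁆⁻¹ * z3 ^ 2 ∈ Z2 := BD.of (by decide +kernel)

theorem f2_c3 : (∀ u ∈ Z3, (z3 ^ 2)⁻¹ * u ^ 2 ∈ Z2 → z3⁻¹ * u ∈ Z2) ∧ (∀ u ∈ J, ⁅u, y⁆⁻¹ * z4 ∈ Z3 → j5⁻¹ * u ∈ Z4) ∧
    ∀ w ∈ Z3, ∀ v ∈ Z2, w * (w * v) * (w * v * v) = 1 := BD.of (by decide +kernel)

theorem f2_c4 : (∀ g ∈ pcs, g ∈ Z3 → g ∈ Z2 ∨ g = z3) ∧ (∀ g ∈ pcs, g ∈ Z4 → g ∈ Z3 ∨ g = z4) ∧
    ∀ g ∈ pcs, g ∈ J → g ∈ Z4 ∨ g = j5 := BD.of (by decide +kernel)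

theorem f2_R5gen : ∀ r ∈ R5, el r ∈ E1 ∧ el r * e3⁻¹ ∈ J ∧ (el r)⁻¹ * e3 ∈ J ∧ el r ∉ J ∧ el r ^ 2 ∉ J :=
  BD.of (by decide +kernel)

/-- `Cz z3 = ⟨y⟩ C3` -/
theorem Y6_cos {a : G} (h : a ∈ Cz z3) : a ∈ C3 ∨ y * a ∈ C3 ∨ y⁻¹ * a ∈ C3 :=
  f2_red (p := fun a => a ∈ C3 ∨ y * a ∈ C3 ∨ y⁻¹ * a ∈ C3) (f2_cos (by norm_num)) (f2_JC f2_z3J)
    (BD.of (by decide +kernel)) h

/-- `(Cz z3)' ≤ Z4`: in `G ⧸ Z4` the images of `y, e0, e1, j5` commute (`Y6_cos`, `L_ind`) -/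
theorem comm_Y6 {a b : G} (ha : a ∈ Cz z3) (hb : b ∈ Cz z3) : ⁅a, b⁆ ∈ Z4 := by
  have c : y ∈ f2K 4 y ∧ (∀ g ∈ pcs, g ∈ C3 → g ∈ f2K 4 y) ∧
      ∀ g ∈ pcs, g ∈ C3 → y ∈ f2K 4 g ∧ ∀ h ∈ pcs, h ∈ C3 → h ∈ f2K 4 g := BD.of (by decide +kernel)
  exact mem_f2K.1 (f2_gen (Y6_cos ha) (f2K_symm (f2_gen (Y6_cos hb) c.1 (le_of_gens c.2.1)))
    (le_of_gens fun g hg hk => f2K_symm (f2_gen (Y6_cos hb) (c.2.2 g hg hk).1 (le_of_gens (c.2.2 g hg hk).2))))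

theorem Cz_R2 : ∀ r ∈ R2, Cz (el r) ≤ E1 := fun r hr =>
  f2_le (f2_JC (f2_R2J r hr)) (L_mono (by norm_num)) ((BD.of (by decide +kernel) :
    ∀ r ∈ R2, AllN 243 fun q => el (243 * q) ∈ Cz (el r) → el (243 * q) ∈ E1) r hr)

theorem Cz_R3 : ∀ r ∈ R3, Cz (el r) ≤ Cz z3 := fun r hr _ ha =>
  have c : ∀ r ∈ R3, el r ∈ E1 ∧ AllN 243 fun q => el (243 * q) ∈ f2K 2 (el r) → el (243 * q) ∈ Cz z3 :=
    BD.of (by decide +kernel)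
  f2_le (f2_JK (c r hr).1) (f2_JC f2_z3J) (c r hr).2 (f2K_of_Cz ha)

/-- witnesses: inverses of the elements number `486, 729, 2187, 243` -/
theorem R2_cj : ∀ r ∈ R2, Cj (el r * z1) (el r) ∧ Cj (el r * z2) (el r) ∧ Ind (el r) (el r * z1) (el r * z2) := fun r hr =>
  have c : ∀ r ∈ R2, f2W [486, 729, 2187, 243] (el r * z1) (el r) ∧ f2W [486, 729, 2187, 243] (el r * z2) (el r) ∧
    Ind (el r) (el r * z1) (el r * z2) := BD.of (by decide +kernel)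
  ⟨(c r hr).1.cj, (c r hr).2.1.cj, (c r hr).2.2⟩

/-- witnesses: inverses of the elements number `162, 243` -/
theorem R3_cj : ∀ r ∈ R3, Cj (el r * z1) (el r) ∧ Cj (el r * z3) (el r) ∧ Ind (el r) (el r * z1) (el r * z3) := fun r hr =>
  have c : ∀ r ∈ R3, f2W [162, 243] (el r * z1) (el r) ∧ f2W [162, 243] (el r * z3) (el r) ∧
    Ind (el r) (el r * z1) (el r * z3) := BD.of (by decide +kernel)
  ⟨(c r hr).1.cj, (c r hr).2.1.cj, (c r hr).2.2⟩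

/-- pairs: 27 ↦ (81,1458), 81 ↦ (9,2187), 90 ↦ (9,2916), 99 ↦ (9,3645), 729 ↦ (3,39447), 732 ↦ (3,39366),
735 ↦ (3,39528) -/
theorem R23_comm : ∀ r ∈ R2 ++ R3, ∃ p ∈ Cz (el r), ∃ q ∈ Cz (el r), ⁅p, q⁆ = z1 := fun r hr =>
  have c : ∀ r ∈ R2 ++ R3, ∃ p ∈ [81, 9, 3], ∃ q ∈ [1458, 2187, 2916, 3645, 39447, 39366, 39528],
    el p ∈ Cz (el r) ∧ el q ∈ Cz (el r) ∧ ⁅el p, el q⁆ = z1 := BD.of (by decide +kernel)
  let ⟨_, _, _, _, h1, h2, h3⟩ := c r hr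
  ⟨_, h1, _, h2, h3⟩

/-- `Cz_R2`, `comm_top` (the top parts lie in `Cz (el r)` too, as `J ≤ Cz (el r)`), check `81 × 81` pairs lazily -/
theorem R2_not_comm : ∀ r ∈ [27, 90, 99], ∀ p ∈ Cz (el r), ∀ q ∈ Cz (el r), ⁅p, q⁆ ≠ el r ∧ ⁅p, q⁆ ≠ (el r)⁻¹ := by
  intro r hr p hp q hq
  have c : ∀ r ∈ [27, 90, 99], AllN 81 fun a => el (243 * a) ∈ Cz (el r) → AllN 81 fun b => el (243 * b) ∈ Cz (el r) →
      el r * ⁅el (243 * a), el (243 * b)⁆⁻¹ ∉ Z2 ∧ (el r)⁻¹ * ⁅el (243 * a), el (243 * b)⁆⁻¹ ∉ Z2 :=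
    BD.of (by decide +kernel)
  have r2 : r ∈ R2 := by
    simp only [R2, List.mem_cons, List.not_mem_nil, or_false] at hr ⊢
    omega
  have hJ := f2_JC (f2_R2J r r2)
  have p1 : p.v < 3 ^ 9 := Cz_R2 r r2 hp
  have q1 : q.v < 3 ^ 9 := Cz_R2 r r2 hq
  have k := c r hr _ (by omega) ((f2_top hJ).2 hp) _ (by omega) ((f2_top hJ).2 hq)
  have t := comm_top (p := p) (q := q) p1 q1
  exact ⟨fun e => k.1 (e ▸ t), fun e => k.2 (e ▸ t)⟩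

theorem j5_cube {a : G} (h : a ∈ Cz j5) : a ^ 3 = 1 ∨ a ^ 3 = z2 ∨ a ^ 3 = z2⁻¹ := by
  have c : j5 ∈ J ∧ AllN 243 fun q => el (243 * q) ∈ Cz j5 → ∀ j ∈ J, (el (243 * q) * j) ^ 3 ∈ [1, z2, z2⁻¹] :=
    BD.of (by decide +kernel)
  have := c.2 _ (by have := v_lt a; omega) ((f2_top (f2_JC c.1)).2 h) _ (f2_low a)
  simpa only [spl243, List.mem_cons, List.not_mem_nil, or_false] using this

theorem R5_cos : ∀ r ∈ R5, ∀ a ∈ Cz (el r), a ∈ J ∨ e3 * a ∈ J ∨ e3⁻¹ * a ∈ J := fun r hr _ ha =>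
  have c : ∀ r ∈ R5, AllN 243 fun q => el (243 * q) ∈ f2K 2 (el r) →
    el (243 * q) ∈ J ∨ e3 * el (243 * q) ∈ J ∨ e3⁻¹ * el (243 * q) ∈ J := BD.of (by decide +kernel)
  f2_red (p := fun a => a ∈ J ∨ e3 * a ∈ J ∨ e3⁻¹ * a ∈ J) (f2_cos le_rfl) (f2_JK (f2_R5gen r hr).1) (c r hr) (f2K_of_Cz ha)

theorem R5_comm : ∀ r ∈ R5, ∀ a ∈ Cz (el r), ∀ b ∈ Cz (el r), a * b = b * a := by
  intro r hr
  obtain ⟨-, k1, k2, -⟩ := f2_R5gen r hr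
  have s : el r ∈ Cz (el r) := mem_Cz.2 rfl
  have g : ∀ T : Subgroup G, el r ∈ T → (∀ j ∈ J, j ∈ Cz (el r) → j ∈ T) → Cz (el r) ≤ T := fun T h1 h2 a ha => by
    rcases R5_cos r hr a ha with h | h | h
    · exact h2 a h ha
    · exact (T.mul_mem_cancel_left h1).1 (h2 _ (by simpa using mul_mem k1 h) (mul_mem s ha))
    · exact (T.mul_mem_cancel_left (inv_mem h1)).1 (h2 _ (by simpa using mul_mem k2 h) (mul_mem (inv_mem s) ha))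
  intro a ha b hb
  exact mem_Cz.1 (g (Cz b) (mem_Cz.2 (mem_Cz.1 hb).symm) (fun j hj hj' => mem_Cz.2 (mem_Cz.1
    (g (Cz j) (mem_Cz.2 (mem_Cz.1 hj').symm) (fun i hi _ => f2_JC hj hi) hb)).symm) ha)

/-- witnesses: the INVERSES of the elements number `9 i + 2187 j` and `486 + 9 i + 2187 j` (`i, j < 3`) -/
theorem R5_cj : ∀ r ∈ R5, ∀ i ∈ [0, 1, 2], ∀ j ∈ [0, 1, 2], ∀ c ∈ [1, el 29],
    c * z2 ^ i * j5 ^ j ∈ Cz (el r) ∧ Cj (el r * (c * z2 ^ i * j5 ^ j)) (el r) := fun r hr i hi j hj c hc =>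
  have k : ∀ r ∈ R5, ∀ i ∈ [0, 1, 2], ∀ j ∈ [0, 1, 2], ∀ c ∈ [1, el 29], c * z2 ^ i * j5 ^ j ∈ Cz (el r) ∧
    f2W [0, 9, 18, 2187, 2196, 2205, 4374, 4383, 4392, 486, 495, 504, 2673, 2682, 2691, 4860, 4869, 4878]
      (el r * (c * z2 ^ i * j5 ^ j)) (el r) := BD.of (by decide +kernel)
  ⟨(k r hr i hi j hj c hc).1, (k r hr i hi j hj c hc).2.cj⟩

theorem R5_ind : ∀ r ∈ R5, ∀ i ∈ [0, 1, 2], ∀ j ∈ [0, 1, 2], ∀ k ∈ [0, 1, 2], ∀ l ∈ [0, 1, 2], k + l ≠ 0 →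
    Ind (el r) (el 29 * z2 ^ i * j5 ^ j) (z2 ^ k * j5 ^ l) := by
  intro r hr i hi j hj k hk l hl h0 a ha b hb c hc e
  have ch : (el 29 ∈ J ∧ z2 ∈ J ∧ j5 ∈ J) ∧ ∀ i ∈ [0, 1, 2], ∀ j ∈ [0, 1, 2], ∀ k ∈ [0, 1, 2], ∀ l ∈ [0, 1, 2], k + l ≠ 0 →
      ∀ b ∈ [0, 1, 2], ∀ c ∈ [0, 1, 2], (el 29 * z2 ^ i * j5 ^ j) ^ b * (z2 ^ k * j5 ^ l) ^ c = 1 → b + c = 0 :=
    BD.of (by decide +kernel)
  obtain ⟨-, -, -, k1, k2⟩ := f2_R5gen r hr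
  have m : el r ^ a ∈ J := by
    rw [mul_assoc, mul_eq_one_iff_eq_inv] at e
    rw [e]
    exact inv_mem (mul_mem (pow_mem (mul_mem (mul_mem ch.1.1 (pow_mem ch.1.2.1 _)) (pow_mem ch.1.2.2 _)) _)
      (pow_mem (mul_mem (pow_mem ch.1.2.1 _) (pow_mem ch.1.2.2 _)) _))
  simp only [List.mem_cons, List.not_mem_nil, or_false] at ha
  rcases ha with rfl | rfl | rfl
  · rw [pow_zero, one_mul] at e
    simpa using ch.2 i hi j hj k hk l hl h0 b hb c hc e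
  · exact absurd (pow_one (el r) ▸ m) k1
  · exact absurd m k2

theorem R5_ind' : ∀ r ∈ R5, Ind (el r) (el r * z2) (el r * j5) ∧ Ind (el r) z2 j5 := BD.of (by decide +kernel)

/-- witnesses `3 i + 27 j` -/
theorem R6_cj : ∀ r ∈ R6, ∀ h ∈ W0, h ∈ Cz (el r) ∧ Cj (el r * h) (el r) := fun r hr h hh =>
  have c : ∀ r ∈ R6, ∀ h ∈ Z3, h ∈ Cz y → h ∈ Cz (el r) ∧ f2W [0, 3, 6, 27, 30, 33, 54, 57, 60] (el r * h) (el r) :=
    BD.of (by decide +kernel)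
  ⟨(c r hr h hh.1 hh.2).1, (c r hr h hh.1 hh.2).2.cj⟩

theorem R6_ind : ∀ r ∈ R6, Ind (el r) z1 z3 := BD.of (by decide +kernel)

/-- the `J`-class of `v ∈ V \ J` is `v Z2` (witnesses `j = z4^a z3^b`; reduce by `V_cos`: only the coset `v (V ⊓ J)` matters) -/
theorem V_orb {v w : G} (hv : v ∈ V) (hv' : v ∉ J) (hw : w ∈ Z2) : ∃ j ∈ J, j * v * j⁻¹ = v * w := by
  have c : ∀ i ∈ [0, 1, 2], ∀ j ∈ [0, 1, 2], el 2916 ^ i * el 6849 ^ j ∉ J → ∀ w ∈ Z2,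
      ∃ s ∈ [0, 9, 18, 27, 36, 45, 54, 63, 72], el s ∈ J ∧
        el s * (el 2916 ^ i * el 6849 ^ j) = el 2916 ^ i * el 6849 ^ j * w * el s := BD.of (by decide +kernel)
  obtain ⟨i, hi, j, hj, u, hu, rfl⟩ := f2_Vc hv
  obtain ⟨s, -, hs, e⟩ := c i hi j hj (fun h => hv' (mul_mem h hu)) w hw
  refine ⟨_, hs, ?_⟩
  rw [← mul_assoc, e, mul_assoc _ _ u, J_comm hs hu, mul_assoc _ u, J_comm hu (L_mono (by norm_num) hw)]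
  group

theorem V_ind {v : G} (hv : v ∈ V) (hv' : v ∉ J) : Ind v (v * z1) (v * z2) := by
  intro i hi j hj k hk e
  have c : z1 ∈ Z2 ∧ z2 ∈ Z2 ∧ ∀ j ∈ [0, 1, 2], ∀ k ∈ [0, 1, 2], z1 ^ j * z2 ^ k = 1 → j + k = 0 :=
    BD.of (by decide +kernel)
  have c1 : Commute v z1 := Z2_comm c.1 (V_le hv)
  have c2 : Commute v z2 := Z2_comm c.2.1 (V_le hv)
  have p := V_pow hv
  have e' : v ^ ((i + j + k) % 3) * (z1 ^ j * z2 ^ k) = 1 := by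
    rw [← pow_eq_pow_mod _ p, ← e, c1.mul_pow, c2.mul_pow, pow_add, pow_add]
    simp only [mul_assoc]
    rw [← mul_assoc (v ^ k), (c1.pow_pow k j).eq, mul_assoc]
  have m : v ^ ((i + j + k) % 3) ∈ J := by
    rw [mul_eq_one_iff_eq_inv.1 e']
    exact L_mono (by norm_num) (inv_mem (mul_mem (pow_mem c.1 _) (pow_mem c.2.1 _)))
  obtain h | h | h : (i + j + k) % 3 = 0 ∨ (i + j + k) % 3 = 1 ∨ (i + j + k) % 3 = 2 := by omega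
  · rw [h, pow_zero, one_mul] at e'
    have := c.2.2 j hj k hk e'
    simp only [List.mem_cons, List.not_mem_nil, or_false] at hi
    omega
  · rw [h, pow_one] at m
    exact absurd m hv'
  · rw [h] at m
    rw [pow_succ] at p
    exact absurd (by rw [eq_inv_of_mul_eq_one_right p]; exact inv_mem m) hv'

theorem J_norm_V {j v : G} (hj : j ∈ J) (hv : v ∈ V) : j * v * j⁻¹ ∈ V := by
  simpa [commutatorElement_def] using mul_mem (Z2_le_V (comm_J hj (V_le hv))) hv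

/-- `N(V) = V J`.  Already `s * el 2916 * s⁻¹ ∈ V` forces `s ∈ V J`; by `spl243` and `J_norm_V` only the 243
elements `el (243 * q)` have to be checked. -/
theorem norm_V {s : G} (h : ∀ v ∈ V, s * v * s⁻¹ ∈ V) : s ∈ E1 ∧ ∀ v ∈ V, s * v * s⁻¹ * v⁻¹ ∈ Z2 := by
  have c : el 2916 ∈ V ∧ AllN 243 fun q => el (243 * q) * el 2916 * (el (243 * q))⁻¹ ∈ V → el (243 * q) ∈ E1 ∧
      ∀ g ∈ [2916, 6849, 90], el g ∈ f2K 2 (el (243 * q)) := BD.of (by decide +kernel)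
  have l := f2_low s
  obtain ⟨k1, k2⟩ := c.2 (s.v / 243) (by have := v_lt s; omega) (by
    have := h _ (J_norm_V (inv_mem l) c.1)
    rw [eq_mul_inv_of_mul_eq (spl243 s)]
    simpa only [mul_assoc, mul_inv_rev] using this)
  refine ⟨(f2_top (L_mono (by norm_num))).1 k1, fun v hv => mem_f2K.1 ((f2_top (f2_JK (V_le hv))).1 (f2K_symm ?_))⟩
  obtain ⟨i, -, j, -, k, -, w, hw, rfl⟩ := V_cos hv
  exact mul_mem (mul_mem (mul_mem (pow_mem (k2 _ (by simp)) _) (pow_mem (k2 _ (by simp)) _)) (pow_mem (k2 _ (by simp)) _))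
    (f2K_self hw _)

/-- commutation of `V` with `z3` and with `el 36 = z4 z3` -/
theorem V_ker {v : G} (hv : v ∈ V) : (⁅z3, v⁆ = 1 → v ∈ J) ∧ (⁅el 36, v⁆ = 1 → v ∈ J) := by
  have c : el 36 ∈ J ∧ ∀ i ∈ [0, 1, 2], ∀ j ∈ [0, 1, 2],
      (⁅z3, el 2916 ^ i * el 6849 ^ j⁆ = 1 → el 2916 ^ i * el 6849 ^ j ∈ J) ∧
      (⁅el 36, el 2916 ^ i * el 6849 ^ j⁆ = 1 → el 2916 ^ i * el 6849 ^ j ∈ J) := BD.of (by decide +kernel)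
  obtain ⟨i, hi, j, hj, u, hu, rfl⟩ := f2_Vc hv
  rw [f2_cmJ _ f2_z3J hu, f2_cmJ _ c.1 hu]
  exact ⟨fun e => mul_mem ((c.2 i hi j hj).1 e) hu, fun e => mul_mem ((c.2 i hi j hj).2 e) hu⟩

theorem V_k {v : G} (hv : v ∈ V) :
    (⁅z3, v⁆ = z1⁻¹ → ⁅el 36, v⁆ = (el 7)⁻¹) ∧ (⁅z3, v⁆ = z2⁻¹ → ⁅el 36, v⁆ = (el 4)⁻¹) := by
  have c : el 36 ∈ J ∧ ∀ i ∈ [0, 1, 2], ∀ j ∈ [0, 1, 2],
      (⁅z3, el 2916 ^ i * el 6849 ^ j⁆ = z1⁻¹ → ⁅el 36, el 2916 ^ i * el 6849 ^ j⁆ = (el 7)⁻¹) ∧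
      (⁅z3, el 2916 ^ i * el 6849 ^ j⁆ = z2⁻¹ → ⁅el 36, el 2916 ^ i * el 6849 ^ j⁆ = (el 4)⁻¹) := BD.of (by decide +kernel)
  obtain ⟨i, hi, j, hj, u, hu, rfl⟩ := f2_Vc hv
  rw [f2_cmJ _ f2_z3J hu, f2_cmJ _ c.1 hu]
  exact c.2 i hi j hj

/-- the normal closure of `V J` is `E1`: `⁅el 2916, y⁆ ∈ e1² J`, `el 6849 ∈ e3 e1 J`, `⁅e3, y⁆ ∈ e2² e0 ⟨e1⟩ J`,
`el 2916 = e2 e0`; `le_of_gens` -/
theorem E1_le {T : Subgroup G} (hn : ∀ s, ∀ x ∈ T, s * x * s⁻¹ ∈ T) (h1 : J ≤ T) (h2 : V ≤ T) : E1 ≤ T := by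
  have c : (el 2916 ∈ V ∧ el 6849 ∈ V ∧ ⁅el 2916, y⁆ * e1 ∈ J ∧ (el 6849)⁻¹ * (e3 * e1) ∈ J) ∧
      (∃ i ∈ [0, 1, 2], (⁅e3, y⁆ * (el 2916)⁻¹)⁻¹ * (e2 * e1 ^ i) ∈ J) ∧ e2 * e0 = el 2916 ∧
      ∀ g ∈ pcs, g ∈ E1 → g ∈ J ∨ g = e3 ∨ g = e2 ∨ g = e0 ∨ g = e1 := BD.of (by decide +kernel)
  obtain ⟨⟨c1, c2, c3, c4⟩, ⟨i, -, c5⟩, c6, c7⟩ := c
  have cm : ∀ x ∈ T, ⁅x, y⁆ ∈ T := fun x hx => by
    simpa only [commutatorElement_def, mul_assoc] using mul_mem hx (hn y _ (inv_mem hx))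
  have k1 : e1 ∈ T := (T.mul_mem_cancel_left (cm _ (h2 c1))).1 (h1 c3)
  have k3 : e3 ∈ T := (T.mul_mem_cancel_right k1).1 ((T.mul_mem_cancel_left (inv_mem (h2 c2))).1 (h1 c4))
  have k2 : e2 ∈ T := (T.mul_mem_cancel_right (pow_mem k1 i)).1
    ((T.mul_mem_cancel_left (inv_mem (mul_mem (cm _ k3) (inv_mem (h2 c1))))).1 (h1 c5))
  have k0 : e0 ∈ T := (T.mul_mem_cancel_left k2).1 (c6 ▸ h2 c1)
  refine le_of_gens fun g hg hk => ?_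
  rcases c7 g hg hk with h | rfl | rfl | rfl | rfl
  exacts [h1 h, k3, k2, k0, k1]

/-- an automorphism fixing `z1, z2` has order dividing 27.  `γ E1 = E1` (`Cz_Z2`), `γ J = J` (`mapJ`).
(a) `⁅z2, γ y⁆ = ⁅z2, y⁆` gives `γ y = y e`, `e ∈ E1` (check on `y^i`), so `⁅u, γ y⁆ ≡ ⁅u, y⁆ mod Z2` for `u ∈ J`
(`comm_J`).  (b) `ystep4/5`: `γ z3 ∈ Z3`, `γ z4 ∈ Z4` (`⁅z3, y⁆ = 1`, `⁅z4, y⁆ ∈ Z3`).  (c) `γ e1 ∈ C3`
(`mem_C3`, as `γ Z3 = Z3`), `(γ e1)^3 = z1^2` forces `γ e1 ∈ e1 C4` (check over `C3`), and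
`⁅γ z4, γ e1⁆ = z1` forces `γ z4 ∈ z4 Z3` (`C4_comm`, check over `Z4`).  (d) `⁅z4, y⁆ = z3²` gives `γ z3 ∈ z3 Z2`;
`⁅j5, y⁆ = z4 z3²` gives `γ j5 ∈ j5 Z4` (check over `J`).  (e) So `γ` is trivial on `L (i+1) / L i`, `i < 5`, and
`γ^9 = 1` on the elementary abelian group `J` (`δ x = γ x * x⁻¹` is an endomorphism of `J`, `δ^5 = 1`,
`γ^3 x * x⁻¹ = δ^3 x`; or pass to the part of `γ` of order prime to 3 and use `fix_of_step`).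
(f) if `σ` is trivial on `J` then `s⁻¹ σ s` centralises `J`, lies in `J` (`mem_J_of_comm`), so `σ^3 = 1`. -/
theorem pow27 (γ : MulAut G) (h1 : γ z1 = z1) (h2 : γ z2 = z2) : γ ^ 3 ^ 3 = 1 := by
  obtain ⟨fx, mE, mJ, ⟨e, he, ey⟩, m3, m4⟩ := f2_aut γ h1 h2
  obtain ⟨-, -, -, -, i3, -⟩ := f2_aut γ⁻¹ (by rw [MulAut.inv_def, MulEquiv.symm_apply_eq, h1])
    (by rw [MulAut.inv_def, MulEquiv.symm_apply_eq, h2])
  obtain ⟨b2, b3, b4, b5, b6, r1, r2, r3, r4⟩ := f2_c1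
  obtain ⟨c1, c2, c3⟩ := f2_c2
  obtain ⟨c4, c5, c6⟩ := f2_c3
  obtain ⟨g3, g4, g5⟩ := f2_c4
  have cz : ∀ u ∈ Z3, γ e1 ∈ Cz u := fun u hu => mem_Cz.2 (by
    have := congrArg γ (C3_comm b6 (i3 u hu))
    simpa only [map_mul, MulAut.apply_inv_self] using this)
  have k1 := c1 _ (mem_C3 (cz _ b2) (cz _ b3)) (by rw [← map_pow, r1, map_pow, h1])
  have k4 : z4⁻¹ * γ z4 ∈ Z3 := c2 _ (m4 _ b4) (by
    have := congrArg γ r2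
    rw [map_commutatorElement, h1, ← mul_inv_cancel_left e1 (γ e1)] at this
    rw [← this, commutatorElement_def, commutatorElement_def, mul_inv_rev e1]
    have t := C4_comm k1 (inv_mem (m4 _ b4))
    generalize e1⁻¹ * γ e1 = a at t ⊢
    rw [← mul_assoc (γ z4), mul_assoc _ a, t]
    group)
  have dy : ∀ u ∈ J, ⁅γ u, y⁆⁻¹ * γ ⁅u, y⁆ ∈ Z2 := fun u hu => by
    rw [map_commutatorElement, ey]
    exact f2_dy (mJ u hu) he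
  have k3 : z3⁻¹ * γ z3 ∈ Z2 := c4 _ (m3 _ b3) (by
    have := mul_mem (inv_mem (c3 _ (m4 _ b4) k4)) (dy _ (L_mono (by norm_num) b4))
    rw [r3, map_pow] at this
    simpa only [mul_inv_rev, inv_inv, mul_assoc, mul_inv_cancel_left] using this)
  have k5 : j5⁻¹ * γ j5 ∈ Z4 := c5 _ (mJ _ b5) (by
    have := mul_mem (mul_mem (L_mono (by norm_num) (dy _ b5)) (inv_mem (m3 _ (pow_mem b3 2)))) (inv_mem k4)
    rw [r4, map_mul] at this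
    simpa only [mul_inv_rev, inv_inv, mul_assoc, mul_inv_cancel_left] using this)
  have t3 : ∀ w ∈ Z3, w⁻¹ * γ w ∈ Z2 := fun w hw => by
    have : Z3 ≤ ((QuotientGroup.mk' Z2).eqLocus ((QuotientGroup.mk' Z2).comp γ.toMonoidHom)) := le_of_gens fun g hg hk =>
      QuotientGroup.eq.2 (by
        rcases g3 g hg hk with h | rfl
        · exact mul_mem (inv_mem h) ((fx g h).symm ▸ h : γ g ∈ Z2)
        · exact k3)
    exact QuotientGroup.eq.1 (this hw)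
  have p3 : ∀ w ∈ Z3, (γ ^ 3) w = w := fun w hw => f2_cube γ (L_mono (by norm_num) (t3 w hw)) (fx _ (t3 w hw))
  have p4 : ∀ w ∈ Z4, (γ ^ 3) w = w := fun w hw => by
    have : Z4 ≤ (γ ^ 3).toMonoidHom.eqLocus (MonoidHom.id G) := le_of_gens fun g hg hk => by
      rcases g4 g hg hk with h | rfl
      · exact p3 g h
      · obtain ⟨w, hw, e4⟩ : ∃ w ∈ Z3, γ z4 = z4 * w := ⟨_, k4, by simp⟩
        obtain ⟨v, hv, e3⟩ : ∃ v ∈ Z2, γ w = w * v := ⟨_, t3 w hw, by simp⟩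
        change (γ ^ 3) z4 = z4
        rw [pow_succ, pow_two, MulAut.mul_apply, MulAut.mul_apply]
        simp only [e4, e3, map_mul, fx v hv]
        have := c6 w hw v hv
        simp only [mul_assoc] at this ⊢
        rw [this, mul_one]
    exact this hw
  have p5 : ∀ w ∈ J, ((γ ^ 3) ^ 3) w = w := fun w hw => by
    have : J ≤ ((γ ^ 3) ^ 3).toMonoidHom.eqLocus (MonoidHom.id G) := le_of_gens fun g hg hk => by
      have m : g⁻¹ * (γ ^ 3) g ∈ Z4 := by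
        rcases g5 g hg hk with h | rfl
        · rw [p4 g h, inv_mul_cancel]; exact one_mem _
        · have := mul_mem (mul_mem k5 (m4 _ k5)) (m4 _ (m4 _ k5))
          rw [pow_succ, pow_two, MulAut.mul_apply, MulAut.mul_apply]
          simpa only [map_mul, map_inv, mul_assoc, mul_inv_cancel_left] using this
      exact f2_cube _ (L_mono (by norm_num) m) (p4 _ m)
    exact this hw
  rw [show 3 ^ 3 = 3 * 3 * 3 from rfl, pow_mul, pow_mul]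
  generalize (γ ^ 3) ^ 3 = σ at p5
  ext1 s
  have cj : ∀ j ∈ J, s⁻¹ * σ s ∈ Cz j := fun j hj => mem_Cz.2 (by
    have := p5 _ ((normal_L 5).conj_mem j hj s)
    rw [map_mul, map_mul, p5 j hj, map_inv] at this
    calc s⁻¹ * σ s * j = s⁻¹ * (σ s * j * (σ s)⁻¹) * σ s := by group
      _ = j * (s⁻¹ * σ s) := by rw [this]; group)
  have m := mem_J_of_comm (cj _ b5) (cj _ (L_mono (by norm_num) b4)) (cj _ (L_mono (by norm_num) b3))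
    (cj _ (L_mono (by norm_num) b2))
  exact f2_cube σ m (p5 _ m)

end Cfsg.Agent.T3F
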