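import Cfsg.Agent.T3F.Bas
import Cfsg.Agent.T3F.Fin2

/-! The types `R5`, `R6` do not occur; the type `R4` gives an automorphism of `V`. -/

set_option autoImplicit false
set_option maxRecDepth 100000
set_option Elab.async false

namespace Cfsg.Agent.T3F

open Cfsg.Agent.Comp Cfsg.Agent.X32 Cfsg.Agent.Fus Cfsg.FusionSystem
open scoped commutatorElement

variable {F : FS}

theorem c5_refl (x : G) : Cj x x := ⟨1, Or.inl (by simp)⟩

theorem c5_ty (hJ : ∀ w, Cl F w → w ∈ J → w ∈ Z2) (h3 : ∀ w, Cl F w → ¬ Ty R3 w) {u : G} (hu : Cl F u)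
    (h2 : u ∉ Z2) (hc : 243 ≤ Nat.card (Cz u)) : Ty R4 u ∨ Ty R5 u := by
  rcases cls hu.pow with h | h | h | h | h | h | h
  · exact absurd h h2
  · exact absurd (hJ u hu (L_mono (by norm_num) h.mem_Z3.1)) h2
  · exact absurd (hJ u hu h.mem_J.1) h2
  · exact absurd h (h3 u hu)
  · exact Or.inl h
  · exact Or.inr h
  · rw [cz6 h] at hc; omega

theorem c5_quot {H : Type*} [Group H] (N : Subgroup H) [N.Normal] {e a b : H} (he : e ^ 3 ∈ N)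
    (ha : a ∈ N ∨ e * a ∈ N ∨ e⁻¹ * a ∈ N) (hb : b ∈ N ∨ e * b ∈ N ∨ e⁻¹ * b ∈ N) (hb' : b ∉ N) :
    ∃ i ∈ [0, 1, 2], a * b ^ i ∈ N := by
  simp only [← QuotientGroup.eq_one_iff, QuotientGroup.mk_mul, QuotientGroup.mk_pow, QuotientGroup.mk_inv]
    at he ha hb hb' ⊢
  generalize (QuotientGroup.mk e : H ⧸ N) = E at *
  generalize (QuotientGroup.mk a : H ⧸ N) = A at *
  generalize (QuotientGroup.mk b : H ⧸ N) = B at *
  have hE : E⁻¹ ^ 3 = 1 := by rw [inv_pow, he, inv_one]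
  rcases hb with hb | hb | hb
  · exact absurd hb hb'
  · obtain rfl : B = E⁻¹ := eq_inv_of_mul_eq_one_right hb
    rcases ha with ha | ha | ha
    · exact ⟨0, by simp, by simp [ha]⟩
    · obtain rfl : A = E⁻¹ := eq_inv_of_mul_eq_one_right ha
      exact ⟨2, by simp, by rw [← pow_succ', hE]⟩
    · obtain rfl : E = A := inv_mul_eq_one.1 ha
      exact ⟨1, by simp, by simp⟩
  · obtain rfl : E = B := inv_mul_eq_one.1 hb
    rcases ha with ha | ha | ha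
    · exact ⟨0, by simp, by simp [ha]⟩
    · obtain rfl : A = E⁻¹ := eq_inv_of_mul_eq_one_right ha
      exact ⟨1, by simp, by simp⟩
    · obtain rfl : E = A := inv_mul_eq_one.1 ha
      exact ⟨2, by simp, by rw [← pow_succ', he]⟩

theorem c5_facts : z1 ∈ Z2 ∧ z2 ∈ Z2 ∧ z1 ∈ W0 ∧ z3 ∈ W0 ∧ el 29 ∉ Z2 ∧ j5 ∉ Z2 ∧ el 29 ∈ J ∧ j5 ∈ J ∧ z2 ∈ J ∧
    e3 ^ 3 ∈ J := BD.of (by decide +kernel)

/-- `x = el r`, `P = Cz x` abelian of order 243 (`R5_comm`, `cz5`), `f` from `Cl.ext`; `nz3` for `x, x z2, x j5`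
(`R5_cj`, `R5_ind'`) gives `u ∉ Z2` of type `R4` or `R5`; `land` gives `g` with `Zg (g x)` and image `V` (`Cz_R4`) or
`Cz (el r')`, `r' ∈ R5`.  Let `𝓗 = {c z2^i j5^j | c = 1, el 29}`; `x h` is in the class for `h ∈ 𝓗` (`R5_cj`).
(*) if `h ∈ 𝓗` and `g h ∈ J` then `g (x h) ∈ J` is in the class, so `g h ∈ Z2`.
Image `V`: if `h ∈ 𝓗`, `g h ∉ J`, then `g h * g x` is conjugate to `g h` (`V_orb`), so `g h` and `h ∈ J` are in the class,
`h ∈ Z2`.  So `g x, g (el 29), g j5 ∈ Z2`, against `nz3`, `R5_ind` (i = j = k = 0, l = 1).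
Image `Cz (el r')` (`R5_cos`: `J` has index 3 in `⟨e3⟩ J`, compute in `G ⧸ J`): if `g z2, g j5 ∈ J` use `nz3`, `R5_ind'`.
Otherwise some `h₀ ∈ {z2, j5}` has `g h₀ ∉ J`; then `g (el 29 * h₀^i) ∈ J` for some `i`, and `g (h₁ h₀^k) ∈ J` for the other
generator `h₁` and some `k`; `nz3`, `R5_ind`. -/
theorem no5 (hF : F.IsSaturated 3) (hJ : ∀ w, Cl F w → w ∈ J → w ∈ Z2) (h3 : ∀ w, Cl F w → ¬ Ty R3 w) :
    ∀ w, Cl F w → ¬ Ty R5 w := by
  intro w hw ht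
  obtain ⟨r, hr, hx⟩ := hw.ty ht
  obtain ⟨-, -, -, -, n29, nj5, m29, mj5, mz2, he3⟩ := c5_facts
  have hxP : el r ∈ Cz (el r) := mem_Cz.2 rfl
  have hcomm := R5_comm r hr
  have hcard : Nat.card (Cz (el r)) = 243 := cz5 ⟨r, hr, c5_refl _⟩
  have hH : ∀ c ∈ [1, el 29], ∀ i ∈ [0, 1, 2], ∀ j ∈ [0, 1, 2], c * z2 ^ i * j5 ^ j ∈ Cz (el r) ∧
      Cl F (el r * (c * z2 ^ i * j5 ^ j)) := fun c hc i hi j hj =>
    ⟨(R5_cj r hr i hi j hj c hc).1, (Cl.cj (R5_cj r hr i hi j hj c hc).2).2 hx⟩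
  have hz2 : z2 ∈ Cz (el r) ∧ Cl F (el r * z2) := by
    simpa using hH 1 (by simp) 1 (by simp) 0 (by simp)
  have hj5 : j5 ∈ Cz (el r) ∧ Cl F (el r * j5) := by
    simpa using hH 1 (by simp) 0 (by simp) 1 (by simp)
  have h29 : el 29 ∈ Cz (el r) ∧ Cl F (el r * el 29) := by
    simpa using hH (el 29) (by simp) 0 (by simp) 0 (by simp)
  obtain ⟨f, hf, hfx⟩ := hx.ext hF
  -- an element outside `Z2`
  obtain ⟨a, haP, haC, ha⟩ : ∃ a ∈ Cz (el r), Cl F a ∧ f a ∉ Z2 := by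
    rcases nz3 hf hxP ((Cz _).mul_mem hxP hz2.1) ((Cz _).mul_mem hxP hj5.1) (R5_ind' r hr).1 with h | h | h
    · exact ⟨_, hxP, hx, h⟩
    · exact ⟨_, (Cz _).mul_mem hxP hz2.1, hz2.2, h⟩
    · exact ⟨_, (Cz _).mul_mem hxP hj5.1, hj5.2, h⟩
  have hac : ∀ p ∈ Cz (el r), p * a = a * p := fun p hp => hcomm p hp a haP
  have hty := c5_ty hJ h3 (haC.map hf haP) ha (hcard ▸ card_le_Cz hf haP hac)
  obtain ⟨r', hr', hcj⟩ : ∃ r', (r' ∈ R4 ∨ r' ∈ R5) ∧ Cj (f a) (el r') := by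
    rcases hty with ⟨r', h1, h2⟩ | ⟨r', h1, h2⟩
    · exact ⟨r', Or.inl h1, h2⟩
    · exact ⟨r', Or.inr h1, h2⟩
  have hc' : Nat.card (Cz (el r')) ≤ Nat.card (Cz (el r)) := by
    rw [hcard]
    rcases hr' with h | h
    · exact (cz4 ⟨r', h, c5_refl _⟩).le
    · exact (cz5 ⟨r', h, c5_refl _⟩).le
  obtain ⟨g, hg, himg, hgf, -⟩ := land hf haP hac hcj hc'
  have hgx : g (el r) ∈ Z2 := by
    rw [hgf _ hxP hfx.mem]; exact L_mono (by norm_num) hfx.mem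
  have hgm : ∀ p ∈ Cz (el r), g p ∈ Cz (el r') := fun p hp => himg ▸ mem_img_of_mem g hp
  have star : ∀ h ∈ Cz (el r), Cl F (el r * h) → g h ∈ J → g h ∈ Z2 := by
    intro h hh hc hj
    have h1 := hc.map hg ((Cz _).mul_mem hxP hh)
    rw [hg.map_mul hxP hh] at h1
    have h2 := hJ _ h1 (J.mul_mem (L_mono (by norm_num) hgx) hj)
    exact (Subgroup.mul_mem_cancel_left _ hgx).1 h2
  have fin : ∀ i ∈ [0, 1, 2], ∀ j ∈ [0, 1, 2], ∀ k ∈ [0, 1, 2], ∀ l ∈ [0, 1, 2], k + l ≠ 0 →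
      g (el 29 * z2 ^ i * j5 ^ j) ∈ J → g (z2 ^ k * j5 ^ l) ∈ J → False := by
    intro i hi j hj k hk l hl hkl h1 h2
    have a1 := hH (el 29) (by simp) i hi j hj
    have a2 := hH 1 (by simp) k hk l hl
    rw [one_mul] at a2
    rcases nz3 hg hxP a1.1 a2.1 (R5_ind r hr i hi j hj k hk l hl hkl) with h | h | h
    · exact h hgx
    · exact h (star _ a1.1 a1.2 h1)
    · exact h (star _ a2.1 a2.2 h2)
  rcases hr' with hr' | hr'
  · rw [Cz_R4 r' hr'] at hgm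
    have key : ∀ h ∈ Cz (el r), Cl F (el r * h) → h ∈ J → h ∉ Z2 → g h ∈ J := by
      intro h hh hc hj hn
      by_contra hg'
      obtain ⟨j, -, e⟩ := V_orb (hgm h hh) hg' hgx
      have h1 := hc.map hg ((Cz _).mul_mem hxP hh)
      rw [hcomm _ hxP _ hh, hg.map_mul hh hxP, ← e] at h1
      have h2 := h1.conj j⁻¹
      rw [show j⁻¹ * (j * g h * j⁻¹) * j⁻¹⁻¹ = g h by group] at h2
      exact hn (hJ _ (h2.of_map hg hh) hj)
    refine fin 0 (by simp) 0 (by simp) 0 (by simp) 1 (by simp) (by simp) ?_ ?_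
    · simpa using key _ h29.1 h29.2 m29 n29
    · simpa using key _ hj5.1 hj5.2 mj5 nj5
  · have cos : ∀ p ∈ Cz (el r), ∀ q ∈ Cz (el r), g q ∉ J → ∃ i ∈ [0, 1, 2], g (p * q ^ i) ∈ J := by
      intro p hp q hq hn
      obtain ⟨i, hi, h⟩ := c5_quot J he3 (R5_cos r' hr' _ (hgm p hp)) (R5_cos r' hr' _ (hgm q hq)) hn
      exact ⟨i, hi, by rwa [hg.map_mul hp ((Cz _).pow_mem hq i), hg.map_pow hq]⟩
    by_cases b1 : g z2 ∈ J
    · by_cases b2 : g j5 ∈ J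
      · rcases nz3 hg hxP hz2.1 hj5.1 (R5_ind' r hr).2 with h | h | h
        · exact h hgx
        · exact h (star _ hz2.1 hz2.2 b1)
        · exact h (star _ hj5.1 hj5.2 b2)
      · obtain ⟨j, hj, h1⟩ := cos _ h29.1 _ hj5.1 b2
        refine fin 0 (by simp) j hj 1 (by simp) 0 (by simp) (by simp) ?_ ?_
        · simpa using h1
        · simpa using b1
    · obtain ⟨i, hi, h1⟩ := cos _ h29.1 _ hz2.1 b1
      obtain ⟨k, hk, h2⟩ := cos _ hj5.1 _ hz2.1 b1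
      refine fin i hi 0 (by simp) k hk 1 (by simp) (by simp) ?_ ?_
      · simpa using h1
      · rw [pow_one, J_comm (J.pow_mem mz2 k) mj5]; exact h2

/-- `x = el r`, `f` from `Cl.ext`.  For `h ∈ W0` with `f h ∈ E1`: `f (x h) ∈ E1` is in the class (`R6_cj`), so
`f h ∈ Z2`.  If `f z1, f z3 ∈ E1` use `nz3`, `R6_ind`.  Otherwise some `u = f h₀ ∉ E1` commutes with `f W0`, so
`f h ∈ E1 → f h ∈ Z1` (`Cz_Z2`), and `pigeon` (`H = W0, K = ⊤, M = E1, Z = Z1, n = 3`) gives `x ∈ W0 ≤ E1`. -/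
theorem no6 (hF : F.IsSaturated 3) (hE : ∀ w, Cl F w → w ∈ E1 → w ∈ Z2) : ∀ w, Cl F w → ¬ Ty R6 w := by
  intro w hw ht
  obtain ⟨r, hr, hx⟩ := hw.ty ht
  obtain ⟨-, -, m1, m3, -⟩ := c5_facts
  have hxP : el r ∈ Cz (el r) := mem_Cz.2 rfl
  obtain ⟨f, hf, hfx⟩ := hx.ext hF
  have hW : W0 ≤ Cz (el r) := fun h hh => (R6_cj r hr h hh).1
  have hW3 : W0 ≤ Z3 := inf_le_left
  have hfx2 : f (el r) ∈ Z2 := L_mono (by norm_num) hfx.mem
  have star : ∀ h ∈ W0, f h ∈ E1 → f h ∈ Z2 := by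
    intro h hh he
    have h1 := ((Cl.cj (R6_cj r hr h hh).2).2 hx).map hf ((Cz _).mul_mem hxP (hW hh))
    rw [hf.map_mul hxP (hW hh)] at h1
    have h2 := hE _ h1 (E1.mul_mem (L_mono (by norm_num) hfx2) he)
    exact (Subgroup.mul_mem_cancel_left _ hfx2).1 h2
  obtain ⟨h₀, hh₀, hu⟩ : ∃ h₀ ∈ W0, f h₀ ∉ E1 := by
    by_contra hn
    push Not at hn
    rcases nz3 hf hxP (hW m1) (hW m3) (R6_ind r hr) with h | h | h
    · exact h hfx2
    · exact h (star _ m1 (hn _ m1))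
    · exact h (star _ m3 (hn _ m3))
  have hM : ∀ h ∈ W0, f h ∈ E1 → f h ∈ Z1 := by
    intro h hh he
    by_contra h1
    apply hu
    rw [← Cz_Z2 (star h hh he) h1, mem_Cz, ← hf.map_mul (hW hh₀) (hW hh), ← hf.map_mul (hW hh) (hW hh₀),
      J_comm (L_mono (by norm_num) (hW3 hh₀)) (L_mono (by norm_num) (hW3 hh))]
  have := pigeon (K := ⊤) (M := E1) (Z := Z1) (n := 3) hf hW (fun _ _ => trivial)
    (by rw [inf_top_eq, Subgroup.card_top, card_G, card_L (by norm_num)]; norm_num)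
    (by rw [card_W0, card_L (by norm_num)]; norm_num) hM hxP hfx.mem
  exact Ty.not_E1 ⟨r, hr, c5_refl _⟩ (L_mono (by norm_num) (hW3 this))

/-- `x = el r ∈ V \ J` in the class; so are `x z1, x z2` (`V_orb`).  For ANY map `θ` on `V`, `nz3` (`V_ind`) gives
`u ∉ Z2` in the class with `243 ≤ card (Cz u)`, of type `R4`; `land` gives `s` with `s (θ V) s⁻¹ = V`. -/
theorem landV (hJ : ∀ w, Cl F w → w ∈ J → w ∈ Z2) (h3 : ∀ w, Cl F w → ¬ Ty R3 w) (h5 : ∀ w, Cl F w → ¬ Ty R5 w)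
    {x : G} (hx : Cl F x) (hV : x ∈ V) (hx' : x ∉ J) {θ : G → G} (hθ : IsMap F V θ) :
    ∃ s : G, img V (fun v => s * θ v * s⁻¹) = V := by
  obtain ⟨m1, m2, -⟩ := c5_facts
  have hcl : ∀ w ∈ Z2, Cl F (x * w) := by
    intro w hw
    obtain ⟨j, -, e⟩ := V_orb hV hx' hw
    exact e ▸ hx.conj j
  obtain ⟨a, haP, haC, ha⟩ : ∃ a ∈ V, Cl F a ∧ θ a ∉ Z2 := by
    rcases nz3 hθ hV (V.mul_mem hV (Z2_le_V m1)) (V.mul_mem hV (Z2_le_V m2)) (V_ind hV hx') with h | h | h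
    · exact ⟨_, hV, hx, h⟩
    · exact ⟨_, V.mul_mem hV (Z2_le_V m1), hcl _ m1, h⟩
    · exact ⟨_, V.mul_mem hV (Z2_le_V m2), hcl _ m2, h⟩
  have hac : ∀ p ∈ V, p * a = a * p := fun p hp => V_comm hp haP
  have hu := haC.map hθ haP
  obtain ⟨r, hr, hcj⟩ := (c5_ty hJ h3 hu ha (card_V ▸ card_le_Cz hθ haP hac)).resolve_right (h5 _ hu)
  obtain ⟨g, -, himg, -, s, hs⟩ := land hθ haP hac hcj (by rw [Cz_R4 r hr])
  exact ⟨s, by rw [← funext hs, himg, Cz_R4 r hr]⟩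

/-- `landV` for `θ` from `Cl.ext` (`Cz_R4`) gives `g`; every conjugate of `V` is a `G`-conjugate, so its normaliser has
the same order. -/
theorem caseB (hF : F.IsSaturated 3) (hJ : ∀ w, Cl F w → w ∈ J → w ∈ Z2) (h3 : ∀ w, Cl F w → ¬ Ty R3 w)
    (h5 : ∀ w, Cl F w → ¬ Ty R5 w) {w : G} (h : Cl F w) (h4 : Ty R4 w) : ∃ g, CaseB F g := by
  obtain ⟨r, hr, hx⟩ := h.ty h4
  obtain ⟨hV, hJ'⟩ := R4_mem r hr
  obtain ⟨f, hf, hfx⟩ := hx.ext hF
  rw [Cz_R4 r hr] at hf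
  obtain ⟨s, hs⟩ := landV hJ h3 h5 hx hV hJ' hf
  have hc : ∀ t : G, IsMap F ⊤ (fun v => t * v * t⁻¹) := fun t => isMap_conj F le_rfl trivial
  refine ⟨fun v => s * f v * s⁻¹, (hc s).comp' hf (fun _ _ => trivial), fun v hv => ?_, ⟨el r, hV, hJ', ?_⟩, hJ,
    le_top, fun Q hQ => ?_⟩
  · have := mem_img_of_mem (fun v => s * f v * s⁻¹) hv
    rwa [hs] at this
  · rw [Z1_comm hfx.mem s, mul_inv_cancel_right]; exact hfx
  · obtain ⟨θ, hθ, rfl⟩ := isConj_iff.1 hQ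
    obtain ⟨t, ht⟩ := landV hJ h3 h5 hx hV hJ' hθ
    have e : img (img V θ) (fun v => t * v * t⁻¹) = V := by
      rw [hθ.homOn.img_img]; exact ht
    refine Nat.card_le_card_of_injective (fun a => ⟨t * a * t⁻¹, ?_⟩) ?_
    · have := (hc t).mem_normalizerIn_img le_top trivial a.2
      rwa [e] at this
    · intro a b hab
      have := congrArg Subtype.val hab
      simp only [mul_left_inj, mul_right_inj] at this
      exact Subtype.ext this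

end Cfsg.Agent.T3F
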