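import Cfsg.Agent.T3F.CA

/-! Strongly closed subgroups.  A strongly closed `T` is invariant under conjugation (`isMap_conj`,
`IsMap.mem_of_stronglyClosed`), so `⁅u, a⁆ ∈ T` for `u ∈ T`. -/

set_option autoImplicit false
set_option maxRecDepth 100000
set_option Elab.async false

namespace Cfsg.Agent.T3F

open Cfsg.Agent.Comp Cfsg.Agent.X32 Cfsg.Agent.Fus Cfsg.FusionSystem
open scoped commutatorElement

variable {F : FS} {T : Subgroup G}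

theorem sc_conj (hT : F.StronglyClosed T) (s : G) {x : G} (hx : x ∈ T) : s * x * s⁻¹ ∈ T :=
  (isMap_conj F le_rfl (Subgroup.mem_top s)).mem_of_stronglyClosed hT (Subgroup.mem_top x) hx

theorem sc_comm (hT : F.StronglyClosed T) (s : G) {x : G} (hx : x ∈ T) : ⁅x, s⁆ ∈ T := by
  have := T.mul_mem hx (sc_conj hT s (T.inv_mem hx))
  simpa only [commutatorElement_def, mul_assoc] using this

theorem sc_fact : (z1 ∈ Z1 ∧ z2 ∈ Z2 ∧ z3 ∈ Z3 ∧ z3 ∉ Z2 ∧ z4 ∈ Z4 ∧ z4 ∉ Z3 ∧ j5 ∈ J) ∧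
    (e1 ∈ C3 ∧ e0 ∈ C4 ∧ e2 ∈ Z6 ∧ e1 ^ 3 = z1⁻¹ ∧ j5 ^ 3 = 1) ∧ ⁅e0, j5⁆ = z1 ∧ ⁅e1, e0⁆ = z3 ∧
    ⁅e2, e0⁆ = z4 * z2 ^ 2 ∧ ⁅j5, e1⁆ = z2⁻¹ ∧ ⁅z3, e2⁆ = z1 := BD.of (by decide +kernel)

theorem sc_cent {P Q : Subgroup G} {f : G → G} (hf : IsMap F P f) (hQ : Q ≤ P) (hm : ∀ x ∈ Q, f x ∈ Q)
    {a : G} (ha : a ∈ P) (hc : ∀ u ∈ Q, a * u = u * a) {u : G} (hu : u ∈ Q) : f a ∈ Cz u := by
  rw [← (hf.mono hQ).img_eq_self hm, (hf.mono hQ).mem_img] at hu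
  obtain ⟨x, hx, rfl⟩ := hu
  rw [mem_Cz, ← hf.map_mul ha (hQ hx), hc x hx, hf.map_mul (hQ hx) ha]

theorem sc_le {k m : ℕ} (h : k ≤ m := by decide) {x : G} (hx : x ∈ L k) : x ∈ L m := L_mono h hx

theorem sc_cube {χ : G → G} (h : IsMap F E1 χ) (h1 : χ z1 ∉ Z1) : χ e1 ∉ C3 := fun k => by
  have := C3_cube k
  rw [← h.map_pow (sc_le (hx := sc_fact.2.1.1)), sc_fact.2.1.2.2.2.1, h.map_inv (sc_le (hx := sc_fact.1.1)),
    inv_mem_iff] at this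
  exact h1 this

theorem sc_e0 {χ : G → G} (h : IsMap F E1 χ) (hi : img E1 χ = E1) (h1 : χ z1 ∉ Z1) : χ e0 ∉ C4 := fun k => by
  obtain ⟨⟨-, -, -, -, -, -, a7⟩, ⟨-, b2, -⟩, c1, -⟩ := sc_fact
  have := comm_C4 k (J_le_C4 (mapJ h.homOn hi a7))
  rw [← h.homOn.map_commutator (sc_le (k := 7) (hx := b2.1)) (sc_le (hx := a7)), c1] at this
  exact h1 this

/-- a nontrivial normal subgroup meets the centre `Z1` (`mem_Z1_of_comm`); `Cl.mem`, `Cl.of_z2` -/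
theorem Z2_le (hz : Cl F z2) (hT : F.StronglyClosed T) (h : T ≠ ⊥) : Z2 ≤ T := by
  have : T.Normal := ⟨fun x hx s => sc_conj hT s hx⟩
  have : Fact (Nat.Prime 3) := ⟨Nat.prime_three⟩
  have hp : IsPGroup 3 G := pG.of_equiv Subgroup.topEquiv
  let _ : MulAction G T := MulAction.compHom T (MulAut.conjNormal : G →* MulAut T)
  obtain ⟨u, hu, u1⟩ := hp.exists_fixed_point_of_prime_dvd_card_of_fixed_point T (a := 1)
    ((IsPGroup.card_eq_or_dvd (hp.to_subgroup T)).resolve_left (mt Subgroup.card_eq_one.1 h))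
    fun g => map_one (MulAut.conjNormal g)
  have h1 : Z1 ≤ T := step (k := 0) (by decide) (L_zero.le.trans bot_le) u.2
    (mem_Z1_of_comm fun a => mul_inv_eq_iff_eq_mul.1 (congrArg Subtype.val (hu a)))
    fun e => u1 (Subtype.ext (Subgroup.mem_bot.1 (L_zero.le e)).symm)
  intro w hw
  by_cases e : w = 1
  · exact e ▸ T.one_mem
  · exact (hz.of_z2 hw e).mem hT (h1 sc_fact.1.1)

/-- If `χ z3 ∈ Z3` then `χ Z3 = Z3` (`mapZ2`, cardinality), `χ e1` centralises `Z3`, lies in `C3` (`mem_C3`), and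
`(χ z1)^2 = (χ e1)^3 ∈ Z1` (`C3_cube`). -/
theorem chi_z3 {χ : G → G} (h : IsMap F E1 χ) (hi : img E1 χ = E1) (h1 : χ z1 ∉ Z1) : χ z3 ∉ Z3 := fun k => by
  obtain ⟨⟨-, a2, a3, a4, -⟩, ⟨b1, -⟩, -⟩ := sc_fact
  have h2 : Z3 ≤ h.homOn.pre Z3 := step (k := 2) (by decide)
    (fun x hx => ⟨sc_le (hx := hx), sc_le (hx := mapZ2 h.homOn hi hx)⟩) ⟨sc_le (hx := a3), k⟩ a3 a4
  have h3 := fun u => sc_cent h (L_mono (by decide)) (fun x hx => (h2 hx).2) (sc_le (hx := b1))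
    (fun _ => C3_comm b1) (u := u)
  exact sc_cube h h1 (mem_C3 (h3 _ (sc_le (hx := a2))) (h3 _ a3))

/-- If `χ Z4 ≤ Z4` then `χ Z4 = Z4`, `χ e0, χ j5` centralise `Z4` (`C4_comm`), lie in `C4`, and `χ z1 = χ ⁅e0, j5⁆ ∈ Z1`. -/
theorem chi_Z4 {χ : G → G} (h : IsMap F E1 χ) (hi : img E1 χ = E1) (h1 : χ z1 ∉ Z1) : χ z3 ∉ Z4 ∨ χ z4 ∉ Z4 := by
  by_contra! k
  obtain ⟨⟨-, a2, a3, a4, a5, a6, -⟩, ⟨-, b2, -⟩, -⟩ := sc_fact
  have h2 : Z3 ≤ h.homOn.pre Z4 := step (k := 2) (by decide)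
    (fun x hx => ⟨sc_le (hx := hx), sc_le (hx := mapZ2 h.homOn hi hx)⟩) ⟨sc_le (hx := a3), k.1⟩ a3 a4
  have h4 : Z4 ≤ h.homOn.pre Z4 := step (k := 3) (by decide) h2 ⟨sc_le (hx := a5), k.2⟩ a5 a6
  have h3 := fun u => sc_cent h (L_mono (by decide)) (fun x hx => (h4 hx).2) (sc_le (k := 7) (hx := b2.1))
    (fun _ => C4_comm b2) (u := u)
  exact sc_e0 h hi h1 ⟨mem_C3 (h3 _ (sc_le (hx := a2))) (h3 _ (sc_le (hx := a3))), h3 _ a5⟩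

/-- `ystep5`, `ystep4`, `step` give `Z3 ≤ T`; `χ z3 ∈ T ⊓ J \ Z3` (`exists_chi`, `mapJ`) gives `Z4 ≤ T`; `chi_Z4` gives `J ≤ T`. -/
theorem J_le (hF : F.IsSaturated 3) (hz : Cl F z2) (hT : F.StronglyClosed T) (h : Z2 ≤ T) {u : G} (hu : u ∈ T)
    (h1 : u ∈ J) (h2 : u ∉ Z2) : J ≤ T := by
  obtain ⟨⟨-, -, a3, -, a5, -⟩, -⟩ := sc_fact
  have k4 : ∀ v ∈ T, v ∈ Z4 → v ∉ Z3 → Z3 ≤ T := fun v a b c =>
    step (k := 2) (by decide) h (sc_comm hT y a) (ystep4 b c).1 (ystep4 b c).2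
  have h3 : Z3 ≤ T := by
    by_cases c : u ∈ Z3
    · exact step (k := 2) (by decide) h hu c h2
    by_cases d : u ∈ Z4
    · exact k4 u hu d c
    · exact k4 _ (sc_comm hT y hu) (ystep5 h1 d).1 (ystep5 h1 d).2
  obtain ⟨χ, m, hi, -, c1⟩ := exists_chi hF hz
  have t3 := m.mem_of_stronglyClosed hT (sc_le (hx := a3)) (h3 a3)
  have j3 := mapJ m.homOn hi (sc_le (hx := a3))
  have h4 : Z4 ≤ T := by
    by_cases d : χ z3 ∈ Z4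
    · exact step (k := 3) (by decide) h3 t3 d (chi_z3 m hi c1)
    · exact step (k := 3) (by decide) h3 (sc_comm hT y t3) (ystep5 j3 d).1 (ystep5 j3 d).2
  rcases chi_Z4 m hi c1 with d | d
  · exact step (k := 4) (by decide) h4 t3 j3 d
  · exact step (k := 4) (by decide) h4 (m.mem_of_stronglyClosed hT (sc_le (hx := a5)) (h4 a5))
      (mapJ m.homOn hi (sc_le (hx := a5))) d

/-- `χ e0 ∉ C4` (else `χ z1 = ⁅χ e0, χ j5⁆ ∈ Z1`); with `ystep9`, `ystep8`, `step_C3`: `C3 ≤ T`.  `χ e1 ∉ C3` (cube), so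
`Z6 ≤ T` (`ystep9`, `step`).  One of `χ e2, χ e0, χ e1` is outside `Z6` (else `χ z3 = χ ⁅e1, e0⁆ ∈ Z4` and
`χ (z4 z2²) = χ ⁅e2, e0⁆ ∈ Z4` by `comm_Z6`, against `chi_Z4`), so `E1 ≤ T`. -/
theorem E1_le_of_C4 (hF : F.IsSaturated 3) (hz : Cl F z2) (hT : F.StronglyClosed T) (h : C4 ≤ T) : E1 ≤ T := by
  obtain ⟨⟨-, a2, -, -, a5, -⟩, ⟨b1, b2, b3, -⟩, -, c2, c3, -⟩ := sc_fact
  obtain ⟨χ, m, hi, -, c1⟩ := exists_chi hF hz
  have mE : ∀ x ∈ E1, χ x ∈ E1 := img_le_iff.1 hi.le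
  have m0 : e0 ∈ E1 := sc_le (k := 7) (hx := b2.1)
  have m1 : e1 ∈ E1 := sc_le (hx := b1)
  have m2 : e2 ∈ E1 := sc_le (hx := b3)
  have t0 := m.mem_of_stronglyClosed hT m0 (h b2)
  have k8 : ∀ v ∈ T, v ∈ Z6 → v ∉ C3 → C3 ≤ T := fun v a b c =>
    step_C3 h (sc_comm hT y a) (ystep8 b c).1 (ystep8 b c).2
  have h7 : C3 ≤ T := by
    by_cases c : χ e0 ∈ C3
    · exact step_C3 h t0 c (sc_e0 m hi c1)
    by_cases d : χ e0 ∈ Z6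
    · exact k8 _ t0 d c
    · exact k8 _ (sc_comm hT y t0) (ystep9 (mE _ m0) d).1 (ystep9 (mE _ m0) d).2
  have t1 := m.mem_of_stronglyClosed hT m1 (h7 b1)
  have h8 : Z6 ≤ T := by
    by_cases d : χ e1 ∈ Z6
    · exact step (k := 7) (by decide) h7 t1 d (sc_cube m c1)
    · exact step (k := 7) (by decide) h7 (sc_comm hT y t1) (ystep9 (mE _ m1) d).1 (ystep9 (mE _ m1) d).2
  by_cases d0 : χ e0 ∈ Z6
  swap
  · exact step (k := 8) (by decide) h8 t0 (mE _ m0) d0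
  by_cases d1 : χ e1 ∈ Z6
  swap
  · exact step (k := 8) (by decide) h8 t1 (mE _ m1) d1
  by_cases d2 : χ e2 ∈ Z6
  swap
  · exact step (k := 8) (by decide) h8 (m.mem_of_stronglyClosed hT m2 (h8 b3)) (mE _ m2) d2
  have k1 := comm_Z6 d1 d0
  have k2 := comm_Z6 d2 d0
  rw [← m.homOn.map_commutator m1 m0, c2] at k1
  rw [← m.homOn.map_commutator m2 m0, c3, m.map_mul (sc_le (hx := a5)) (sc_le (hx := pow_mem a2 2)),
    Subgroup.mul_mem_cancel_right _ (sc_le (hx := mapZ2 m.homOn hi (pow_mem a2 2)))] at k2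
  exact ((chi_Z4 m hi c1).elim (fun e => e k1) fun e => e k2).elim

/-- `ψ z2 ∈ T ⊓ Z3 \ Z2`, so `J ≤ T`.  `ψ Z3 = Z3` (`mapZ3`), so `ψ j5, ψ e1 ∈ C3` (`C3_comm`, `mem_C3`), `ψ j5 ∈ C4`
(`C4_of_cube`), `ψ j5 ∉ J` (else `ψ z2 = ⁅ψ e1, ψ j5⁆ ∈ Z2`, `comm_J`): `C4 ≤ T` (`step_C4`), `E1 ≤ T`.  `ψ e2 ∉ E1` (else
`ψ z1 = ⁅ψ z3, ψ e2⁆ = 1`), so `T = ⊤` (`step`, `L_ten`). -/
theorem scA (hF : F.IsSaturated 3) (hz : Cl F z2) {ψ : G → G} (hA : CaseA F ψ) (hT : F.StronglyClosed T)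
    (h : T ≠ ⊥) : T = ⊤ := by
  obtain ⟨⟨-, a2, a3, -, -, -, a7⟩, ⟨b1, -, b3, -, b5⟩, -, -, -, c4, c5⟩ := sc_fact
  have m := hA.map
  have h2 := Z2_le hz hT h
  have mE : ∀ {k : ℕ} {x : G}, x ∈ L k → k ≤ 8 → x ∈ E2 := fun hx hk => Z6_le_E2 (L_mono hk hx)
  have hJ := J_le hF hz hT h2 (m.mem_of_stronglyClosed hT (mE a2 (by decide)) (h2 a2))
    (sc_le (hx := hA.hz2)) hA.hz2'
  have k3 : ∀ x ∈ C3, ψ x ∈ C3 := fun x hx => by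
    have h3 := fun u => sc_cent m (fun _ a => mE a (by decide)) (fun _ => hA.mapZ3) (mE hx (by decide))
      (fun _ => C3_comm hx) (u := u)
    exact mem_C3 (h3 _ (sc_le (hx := a2))) (h3 _ a3)
  have h4 : C4 ≤ T := step_C4 hJ (m.mem_of_stronglyClosed hT (mE a7 (by decide)) (hJ a7))
    (C4_of_cube (k3 _ (sc_le (hx := a7))) (by rw [← m.map_pow (mE a7 (by decide)), b5, m.map_one]))
    fun k => by
      have := comm_J k (sc_le (hx := k3 _ b1))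
      rw [← m.homOn.map_commutator (mE a7 (by decide)) (mE b1 (by decide)), c4,
        m.map_inv (mE a2 (by decide)), inv_mem_iff] at this
      exact hA.hz2' this
  have h9 := E1_le_of_C4 hF hz hT h4
  refine eq_top_iff.2 (L_ten.ge.trans (step (k := 9) (by decide) h9 (m.mem_of_stronglyClosed hT
    (mE b3 le_rfl) (h9 (sc_le (hx := b3)))) (L_ten.ge (Subgroup.mem_top _)) fun k => hA.hz1.ne_one ?_))
  rw [← c5, m.homOn.map_commutator (mE a3 (by decide)) (mE b3 le_rfl),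
    commutatorElement_eq_one_iff_mul_comm, Z2_comm hA.hz3 k]

end Cfsg.Agent.T3F
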