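import Cfsg.Agent.T3F.CB1
import Cfsg.Agent.T3F.SC

/-! The case of `V`: an automorphism of order eight of `Z2`; strongly closed subgroups. -/

set_option autoImplicit false
set_option maxRecDepth 100000
set_option Elab.async false

namespace Cfsg.Agent.T3F

open Cfsg.Agent.Comp Cfsg.Agent.X32 Cfsg.Agent.Fus Cfsg.FusionSystem
open scoped commutatorElement

variable {F : FS} {g : G → G}

theorem exists_cJ {i : G} (hi : i ∈ J) : ∃ α ∈ autInducedBy J V, ∀ v ∈ V, afn α v = i * v * i⁻¹ := by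
  obtain ⟨α, hα⟩ := exists_mulAut_conj (P := V) (x := i) (Subgroup.mem_normalizer_iff.2 fun v =>
    ⟨J_norm_V hi, fun k => by simpa [mul_assoc] using J_norm_V (J.inv_mem hi) k⟩)
  exact ⟨α, mem_autInducedBy.2 ⟨i, hi, hα⟩, hα⟩

theorem z1_facts : z1 ∈ Z2 ∧ z1 ≠ 1 ∧ z2 ∈ Z2 ∧ el 7 ∈ Z2 ∧ el 4 ∈ Z2 ∧ z3 ∈ J ∧ el 36 ∈ J :=
  BD.of (by decide +kernel)

theorem CaseB.disj' (hF : F.IsSaturated 3) (h : CaseB F g) {a a' : G} (ha : a ∈ Z2) (ha' : a' ∈ Z2)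
    (e : (g a')⁻¹ * g a ∈ J) : a = a' := by
  rw [← h.map.map_inv (Z2_le_V ha'), ← h.map.map_mul (V.inv_mem (Z2_le_V ha')) (Z2_le_V ha)] at e
  exact (inv_mul_eq_one.1 (h.disj hF (Z2.mul_mem (Z2.inv_mem ha') ha) e)).symm

theorem CaseB.inj (hF : F.IsSaturated 3) (h : CaseB F g) {j : G} (hj : ∀ v ∈ V, ⁅j, v⁆ = 1 → v ∈ J)
    {a a' : G} (ha : a ∈ Z2) (ha' : a' ∈ Z2) (e : ⁅j, g a⁆ = ⁅j, g a'⁆) : a = a' := by
  refine h.disj' hF ha ha' (hj _ (V.mul_mem (V.inv_mem (h.mem _ (Z2_le_V ha'))) (h.mem _ (Z2_le_V ha))) ?_)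
  calc ⁅j, (g a')⁻¹ * g a⁆ = (g a')⁻¹ * (⁅j, g a'⁆⁻¹ * ⁅j, g a⁆) * g a' := by
        simp only [commutatorElement_def]; group
    _ = 1 := by rw [e]; group

/-- Let `γ ∈ Aut_F(V)` be `g`, `A = Z2`, `A' = γ A`; `A' ⊓ J = ⊥` (`disj`).  `b ↦ ⁅j, b⁆` is an injective homomorphism
`A' → Z2` (`hj`; `⁅j, b⁆ ∈ Z2` is central in `E1`), so onto: take `b ∈ A'` with `⁅j, b⁆ = z1⁻¹`.  `γ⁻¹ z1 ∉ J` (`disj` for
`CaseB.inv`), so by `V_orb` some `t' = γ c_i γ⁻¹ ∈ 𝒩` (`i ∈ J`) has `t' z1 = z1 b`; `m = c_j t' ∈ 𝒩` has `m z1 = b`.  By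
`stab` for `γ⁻¹ m` we get `m A ≤ A'`.  For `a ∈ A`: `t' a = a b'`, `b' ∈ A'` (`comm_J`), `m a = a ⁅j, b'⁆ b' ∈ A'`, so
`a ⁅j, b'⁆ ∈ A ⊓ A' = ⊥` and `m a = b'`. -/
theorem CaseB.m (hF : F.IsSaturated 3) (h : CaseB F g) (𝒩 : Subgroup (MulAut V)) (h1 : autInducedBy J V ≤ 𝒩)
    (h2 : 𝒩 ≤ F.autGroup V) (h3 : ∀ α ∈ F.autGroup V, ∀ β ∈ 𝒩, α * β * α⁻¹ ∈ 𝒩) {j : G} (hJ : j ∈ J)
    (hj : ∀ v ∈ V, ⁅j, v⁆ = 1 → v ∈ J) :
    ∃ m ∈ 𝒩, ∀ a ∈ Z2, afn m a ∈ img Z2 g ∧ ⁅j, afn m a⁆ = a⁻¹ := by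
  have ZJ : Z2 ≤ J := L_mono (by norm_num)
  have JE : J ≤ E1 := L_mono (by norm_num)
  obtain ⟨hz, hz1, -⟩ := z1_facts
  obtain ⟨γ, hγ, eγ⟩ := h.map.exists_aut (h.map.img_eq_self h.mem)
  obtain ⟨g', h', e1, e2⟩ := h.inv hF
  have eγ' : ∀ x ∈ V, afn γ⁻¹ x = g' x := fun x hx => by
    conv_lhs => rw [← e2 x hx, ← eγ _ (h'.mem x hx), afn_inv_afn _ (h'.mem x hx)]
  obtain ⟨⟨a0, ha0⟩, e0⟩ := (Finite.injective_iff_surjective (f := fun a : Z2 =>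
    (⟨⁅j, g a⁆, comm_J hJ (V_le (h.mem _ (Z2_le_V a.2)))⟩ : Z2))).1
    (fun a a' e => Subtype.ext (h.inj hF hj a.2 a'.2 (congrArg Subtype.val e))) ⟨z1⁻¹, Z2.inv_mem hz⟩
  replace e0 : ⁅j, g a0⁆ = z1⁻¹ := congrArg Subtype.val e0
  obtain ⟨i, hi, ei⟩ := V_orb (h'.mem _ (Z2_le_V hz)) (fun k => hz1 (h'.disj hF hz k)) ha0
  obtain ⟨ci, hci, eci⟩ := exists_cJ hi
  obtain ⟨cj, hcj, ecj⟩ := exists_cJ hJ
  have hm : cj * (γ * ci * γ⁻¹) ∈ 𝒩 := 𝒩.mul_mem (h1 hcj) (h3 γ hγ ci (h1 hci))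
  have em : ∀ v ∈ V, afn (cj * (γ * ci * γ⁻¹)) v = j * g (i * g' v * i⁻¹) * j⁻¹ := fun v hv => by
    rw [afn_mul _ _ hv, afn_mul _ _ hv, eγ' v hv, afn_mul _ _ (h'.mem v hv), eci _ (h'.mem v hv),
      eγ _ (J_norm_V hi (h'.mem v hv)), ecj _ (h.mem _ (J_norm_V hi (h'.mem v hv)))]
  generalize cj * (γ * ci * γ⁻¹) = m at hm em
  have m1 : afn m z1 = g a0 := by
    rw [em _ (Z2_le_V hz), ei, h.map.map_mul (h'.mem _ (Z2_le_V hz)) (Z2_le_V ha0), e2 _ (Z2_le_V hz),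
      ← mul_assoc, Z2_comm hz (JE hJ)]
    calc z1 * j * g a0 * j⁻¹ = z1 * ⁅j, g a0⁆ * g a0 := by simp only [commutatorElement_def]; group
      _ = _ := by rw [e0]; group
  have st := h.stab hF (h'.map.comp' ((mem_autGroup le_top).1 (h2 hm)) fun x hx => afn_mem m hx)
    (fun x hx => h'.mem _ (afn_mem m hx)) hz hz1 (by
      show g' (afn m z1) ∈ Z2
      rwa [m1, e1 _ (Z2_le_V ha0)])
  refine ⟨m, hm, fun a ha => ?_⟩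
  have aV := Z2_le_V ha
  have k1 : afn m a = g (g' (afn m a)) := (e2 _ (afn_mem m aV)).symm
  have k2 : g' (afn m a) ∈ Z2 := st a ha
  have hw : ⁅i, g' a⁆ ∈ Z2 := comm_J hi (V_le (h'.mem a aV))
  have k3 : afn m a = g ⁅i, g' a⁆ * (⁅j, g ⁅i, g' a⁆⁆ * a) := by
    have bV := h.mem _ (Z2_le_V hw)
    rw [em a aV, show i * g' a * i⁻¹ = ⁅i, g' a⁆ * g' a by simp only [commutatorElement_def]; group,
      h.map.map_mul (Z2_le_V hw) (h'.mem a aV), e2 a aV, ← mul_assoc (g _),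
      Z2_comm (comm_J hJ (V_le bV)) (V_le bV), mul_assoc, mul_assoc, ← Z2_comm ha (JE (J.inv_mem hJ))]
    simp only [commutatorElement_def j]; group
  have k4 : g' (afn m a) = ⁅i, g' a⁆ := h.disj' hF k2 hw (by
    rw [← k1, k3, inv_mul_cancel_left]
    exact ZJ (Z2.mul_mem (comm_J hJ (V_le (h.mem _ (Z2_le_V hw)))) ha))
  refine ⟨k1 ▸ mem_img_of_mem g k2, ?_⟩
  rw [k4] at k1
  rw [← k1, left_eq_mul] at k3
  exact eq_inv_of_mul_eq_one_left k3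

/-- `k = m_b⁻¹ m_a` for `j = z3` and `j = el 36` (`V_ker`, `V_k`): `⁅el 36, ·⁆` is injective on `A'`, so
`m_b (el 7) = m_a z1` and `m_b (el 4) = m_a z2`. -/
theorem CaseB.k (hF : F.IsSaturated 3) (h : CaseB F g) (𝒩 : Subgroup (MulAut V)) (h1 : autInducedBy J V ≤ 𝒩)
    (h2 : 𝒩 ≤ F.autGroup V) (h3 : ∀ α ∈ F.autGroup V, ∀ β ∈ 𝒩, α * β * α⁻¹ ∈ 𝒩) :
    ∃ k ∈ 𝒩, afn k z1 = el 7 ∧ afn k z2 = el 4 := by
  obtain ⟨hz1, -, hz2, h7, h4, j3, j36⟩ := z1_facts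
  obtain ⟨ma, ha, ea⟩ := h.m hF 𝒩 h1 h2 h3 j3 fun v hv => (V_ker hv).1
  obtain ⟨mb, hb, eb⟩ := h.m hF 𝒩 h1 h2 h3 j36 fun v hv => (V_ker hv).2
  have key : ∀ u ∈ Z2, ∀ w ∈ Z2, ⁅el 36, afn ma u⁆ = w⁻¹ → afn (mb⁻¹ * ma) u = w := fun u hu w hw e => by
    obtain ⟨a, ha, e1⟩ := (h.map.mono Z2_le_V).mem_img.1 (ea u hu).1
    obtain ⟨a', ha', e2⟩ := (h.map.mono Z2_le_V).mem_img.1 (eb w hw).1
    have := h.inj hF (fun v hv => (V_ker hv).2) ha ha' (by rw [e1, e2, e, (eb w hw).2])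
    rw [afn_mul _ _ (Z2_le_V hu), ← e1, this, e2, afn_inv_afn _ (Z2_le_V hw)]
  exact ⟨mb⁻¹ * ma, 𝒩.mul_mem (𝒩.inv_mem hb) ha,
    key _ hz1 _ h7 ((V_k (afn_mem ma (Z2_le_V hz1))).1 (ea _ hz1).2),
    key _ hz2 _ h4 ((V_k (afn_mem ma (Z2_le_V hz2))).2 (ea _ hz2).2)⟩

/-- `𝒩 = F.autGroup V` -/
theorem CaseB.kF (hF : F.IsSaturated 3) (h : CaseB F g) : M2 F (el 7) (el 4) := by
  obtain ⟨k, hk, e⟩ := h.k hF (F.autGroup V)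
    ((autInducedBy_mono le_top V).trans (autInducedBy_le_autGroup F le_top)) le_rfl
    fun α hα β hβ => mul_mem (mul_mem hα hβ) (inv_mem hα)
  exact ⟨afn k, ((mem_autGroup le_top).1 hk).mono Z2_le_V, e⟩

/-- `𝒩 = E.autGroup V` (`invIn_aut_conj_mem` in `Fus/WNorm.lean`) -/
theorem CaseB.kE (hF : F.IsSaturated 3) (h : CaseB F g) {T : Subgroup G} {E : FusionSystem T}
    (hE : E.IsInvariantIn F) (hT : E1 ≤ T) : M2 E (el 7) (el 4) := by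
  have hV : V ≤ T := V_le.trans hT
  obtain ⟨k, hk, e⟩ := h.k hF (E.autGroup V)
    ((autInducedBy_mono ((L_mono (by norm_num)).trans hT) V).trans (autInducedBy_le_autGroup E hV))
    (fun α hα => (mem_autGroup le_top).2 (((mem_autGroup hV).1 hα).of_sub (Inv.sub hE)))
    fun α hα β hβ => (Inv.sInv hE).conj_mem le_top hV hα hβ
  exact ⟨afn k, ((mem_autGroup hV).1 hk).mono Z2_le_V, e⟩

/-- `Z2 ≤ T` (`Z2_le`, `CaseB.cl`), `x ∈ T` (`Cl.mem`) for the `x ∈ V \ J` of `h.ex`; some `⁅x, b⁆ ∈ J \ Z2` (`mem_J_of`,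
`comm_E1`), so `J ≤ T` (`J_le`).  `A' = img Z2 g ≤ T`, `A' ⊓ (V ⊓ J) = ⊥`, orders `9 · 27 = 243`, so
`V = A' ⊔ (V ⊓ J) ≤ T`; `E1_le`. -/
theorem scB (hF : F.IsSaturated 3) (h : CaseB F g) {T : Subgroup G} (hT : F.StronglyClosed T) (h0 : T ≠ ⊥) :
    E1 ≤ T := by
  have hz := h.cl hF
  have k1 : Z2 ≤ T := Z2_le hz hT h0
  obtain ⟨x, hx, nx, zx⟩ := h.ex
  have xT : x ∈ T := Cl.mem hT (k1 z1_facts.1) ((Cl.of_zg zx).of_map h.map hx)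
  obtain ⟨b, hb, nb⟩ : ∃ b ∈ E1, ⁅x, b⁆ ∉ Z2 := by
    by_contra k
    push Not at k
    exact nx (mem_J_of (V_le hx) k)
  have k2 : J ≤ T := J_le hF hz hT k1 (u := ⁅x, b⁆) (by
    have := T.mul_mem xT (sc_conj hT b (T.inv_mem xT))
    rwa [← mul_assoc, ← mul_assoc] at this) (comm_E1 (V_le hx) hb) nb
  refine E1_le (fun s x hx => sc_conj hT s hx) k2 ?_
  have k3 := Nat.card_le_card_of_injective (fun p : Z2 × (V ⊓ J : Subgroup G) =>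
    (⟨g p.1 * p.2, T.mul_mem (h.map.mem_of_stronglyClosed hT (Z2_le_V p.1.2) (k1 p.1.2)) (k2 p.2.2.2),
      V.mul_mem (h.mem _ (Z2_le_V p.1.2)) p.2.2.1⟩ : (T ⊓ V : Subgroup G))) fun p q e => by
    have e' : g p.1 * p.2 = g q.1 * q.2 := congrArg Subtype.val e
    have e1 : (p.1 : G) = q.1 := h.disj' hF p.1.2 q.1.2 (by
      rw [show (g q.1)⁻¹ * g p.1 = q.2 * (p.2 : G)⁻¹ by
        rw [inv_mul_eq_iff_eq_mul, ← mul_assoc, ← e', mul_inv_cancel_right]]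
      exact J.mul_mem q.2.2.2 (J.inv_mem p.2.2.2))
    rw [e1] at e'
    exact Prod.ext (Subtype.ext e1) (Subtype.ext (mul_left_cancel e'))
  rw [Nat.card_prod, card_L (by norm_num), card_VJ] at k3
  exact inf_eq_right.1 (Subgroup.eq_of_le_of_card_ge inf_le_right (by rw [card_V]; exact k3))

end Cfsg.Agent.T3F
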