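import Cfsg.Agent.T3F.Bas
import Cfsg.Agent.T3F.Fin2

/-! The automorphisms of `Z2` and of `G` in the system. -/

set_option autoImplicit false
set_option maxRecDepth 100000
set_option Elab.async false

namespace Cfsg.Agent.T3F

open Cfsg.Agent.Comp Cfsg.Agent.X32 Cfsg.Agent.Fus Cfsg.FusionSystem
open scoped commutatorElement

variable {F : FS}

/-- the image of `w = z2^k z1^l` (number `3 k + l`) under `z1 ↦ u, z2 ↦ v` -/
noncomputable def sb (u v w : G) : G := v ^ (w.v / 3) * u ^ (w.v % 3)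

theorem sb_eq {f : G → G} (hf : HomOn Z2 f) {w : G} (hw : w ∈ Z2) : f w = sb (f z1) (f z2) w := by
  have h : ∀ w ∈ Z2, w = z2 ^ (w.v / 3) * z1 ^ (w.v % 3) := BD.of (by decide +kernel)
  have h1 : z1 ∈ Z2 := BD.of (by decide +kernel)
  have h2 : z2 ∈ Z2 := BD.of (by decide +kernel)
  calc f w = f (z2 ^ (w.v / 3) * z1 ^ (w.v % 3)) := congrArg f (h w hw)
    _ = _ := by rw [hf.map_mul (pow_mem h2 _) (pow_mem h1 _), hf.map_pow h2, hf.map_pow h1, sb]

theorem gl_z1 : z1 ∈ Z2 := BD.of (by decide +kernel)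

theorem gl_z2 : z2 ∈ Z2 := BD.of (by decide +kernel)

theorem gl_sb_mem {u v : G} (hu : u ∈ Z2) (hv : v ∈ Z2) (w : G) : sb u v w ∈ Z2 :=
  mul_mem (pow_mem hv _) (pow_mem hu _)

theorem gl_map_mem {f : G → G} (hf : HomOn Z2 f) (h1 : f z1 ∈ Z2) (h2 : f z2 ∈ Z2) {w : G} (hw : w ∈ Z2) :
    f w ∈ Z2 := by
  rw [sb_eq hf hw]
  exact gl_sb_mem h1 h2 w

theorem M2.comp {T : Subgroup G} {E : FusionSystem T} {u v u' v' : G} (h : M2 E u v) (h' : M2 E u' v')
    (hu : u ∈ Z2) (hv : v ∈ Z2) : M2 E (sb u' v' u) (sb u' v' v) := by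
  obtain ⟨f, hf, rfl, rfl⟩ := h
  obtain ⟨g, hg, rfl, rfl⟩ := h'
  exact ⟨fun x => g (f x), hg.comp' hf fun x hx => gl_map_mem hf.homOn hu hv hx, sb_eq hg.homOn hu,
    sb_eq hg.homOn hv⟩

/-- `sb` on numbers -/
def glN (a b c : ℕ) : ℕ :=
  3 * ((c / 3 * (b / 3) + c % 3 * (a / 3)) % 3) + (c / 3 * (b % 3) + c % 3 * (a % 3)) % 3

/-- composition of maps coded as `9 a + b` -/
def glM (x g : ℕ) : ℕ := 9 * glN (g / 9) (g % 9) (x / 9) + glN (g / 9) (g % 9) (x % 9)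

theorem gl_sb : AllN 9 fun a => AllN 9 fun b => AllN 9 fun c =>
    el b ^ ((el c).v / 3) * el a ^ ((el c).v % 3) = el (glN a b c) := BD.of (by decide +kernel)

/-- the map with code `x` lies in `E` -/
def glP {T : Subgroup G} (E : FusionSystem T) (x : ℕ) : Prop := x < 81 ∧ M2 E (el (x / 9)) (el (x % 9))

theorem glN_lt (a b c : ℕ) : glN a b c < 9 := by
  unfold glN
  omega

theorem glP.mul {T : Subgroup G} {E : FusionSystem T} {x g : ℕ} (hx : glP E x) (hg : glP E g) :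
    glP E (glM x g) := by
  have a1 := glN_lt (g / 9) (g % 9) (x / 9)
  have a2 := glN_lt (g / 9) (g % 9) (x % 9)
  have b1 := hx.1
  have b2 := hg.1
  refine ⟨by unfold glM; omega, ?_⟩
  have := hx.2.comp hg.2 (el_mem_L (k := 2) (by omega)) (el_mem_L (k := 2) (by omega))
  rw [sb, sb, gl_sb _ (by omega) _ (by omega) _ (by omega), gl_sb _ (by omega) _ (by omega) _ (by omega)] at this
  rwa [show glM x g / 9 = glN (g / 9) (g % 9) (x / 9) by unfold glM; omega,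
    show glM x g % 9 = glN (g / 9) (g % 9) (x % 9) by unfold glM; omega]

noncomputable def glAdd (gs : List ℕ) (x acc : ℕ) : ℕ :=
  List.rec (motive := fun _ => ℕ) acc (fun g _ ih => Nat.lor ih (Nat.pow 2 (glM x g))) gs

noncomputable def glS (gs : List ℕ) (m : ℕ) : ℕ :=
  Nat.rec (motive := fun _ => ℕ) m (fun x ih => force ih fun ih => ite' (tb ih x) (glAdd gs x ih) ih) 81

noncomputable def glI (gs : List ℕ) (n : ℕ) : ℕ :=
  Nat.rec (motive := fun _ => ℕ) (Nat.pow 2 12) (fun _ ih => force ih (glS gs)) n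

theorem gl_add {p : ℕ → Prop} {gs : List ℕ} {x acc : ℕ} (h : ∀ g ∈ gs, p (glM x g))
    (ha : ∀ z, acc.testBit z = true → p z) : ∀ z, (glAdd gs x acc).testBit z = true → p z := by
  induction gs with
  | nil => exact ha
  | cons g gs ih =>
    intro z hz
    change (glAdd gs x acc ||| 2 ^ glM x g).testBit z = true at hz
    rw [Nat.testBit_or, Bool.or_eq_true, Nat.testBit_two_pow, decide_eq_true_eq] at hz
    rcases hz with hz | rfl
    · exact ih (fun g hg => h g (List.mem_cons_of_mem _ hg)) z hz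
    · exact h g List.mem_cons_self

theorem gl_S {p : ℕ → Prop} {gs : List ℕ} (h : ∀ x, p x → ∀ g ∈ gs, p (glM x g)) {m : ℕ}
    (hm : ∀ z, m.testBit z = true → p z) : ∀ z, (glS gs m).testBit z = true → p z := by
  unfold glS
  generalize 81 = n
  induction n with
  | zero => exact hm
  | succ n ih =>
    simp only [force_eq, ite'_eq, tb_eq] at ih ⊢
    split_ifs with c
    · exact gl_add (h n (ih n c)) ih
    · exact ih

theorem gl_I {T : Subgroup G} {E : FusionSystem T} (hT : Z2 ≤ T) {gs : List ℕ} (h : ∀ g ∈ gs, glP E g) (n : ℕ) :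
    ∀ z, (glI gs n).testBit z = true → glP E z := by
  induction n with
  | zero =>
    intro z hz
    change (2 ^ 12).testBit z = true at hz
    rw [Nat.testBit_two_pow, decide_eq_true_eq] at hz
    subst hz
    exact ⟨by norm_num, fun x => x, isMap_id E hT, rfl, rfl⟩
  | succ n ih =>
    change ∀ z, (force (glI gs n) (glS gs)).testBit z = true → glP E z
    rw [force_eq]
    exact gl_S (fun x hx g hg => hx.mul (h g hg)) ih

theorem gl_chk : ∀ a ∈ [3, 4, 5, 6, 7, 8], ∀ b ∈ [1, 2], ∀ k ∈ [15, 16, 17, 67], ∀ u ∈ [1, 2],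
    ∀ v ∈ [3, 4, 5, 6, 7, 8], (glI [13, 9 * a + b, k] 3).testBit (9 * u + v) = true := by
  have : (allL [3, 4, 5, 6, 7, 8] fun a => allL [1, 2] fun b => allL [15, 16, 17, 67] fun k =>
      force (9 * a + b) fun c => force (glI [13, c, k] 3) fun m => allL [1, 2] fun u =>
        allL [3, 4, 5, 6, 7, 8] fun v => tb m (9 * u + v)) = true := by decide +kernel
  simpa only [allL_iff, force_eq, tb_eq] using this

theorem gl_chk2 : (glI [67, 62] 2).testBit 13 = true := by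
  rw [← tb_eq]
  decide +kernel

theorem gl_zg {u : G} (h : Zg u) : u.v ∈ [1, 2] := by
  have : z1.v ∈ [1, 2] ∧ (z1⁻¹).v ∈ [1, 2] := by decide +kernel
  rcases h with rfl | rfl
  exacts [this.1, this.2]

theorem gl_out {u : G} (h : u ∈ Z2) (h' : u ∉ Z1) : u.v ∈ [3, 4, 5, 6, 7, 8] := by
  have h1 : u.v < 3 ^ 2 := h
  have h2 : ¬ u.v < 3 ^ 1 := h'
  simp only [List.mem_cons, List.not_mem_nil, or_false]
  omega

theorem glP.of {T : Subgroup G} {E : FusionSystem T} {u v : G} (h : M2 E u v) (hu : u ∈ Z2) (hv : v ∈ Z2) :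
    glP E (9 * u.v + v.v) := by
  have h1 : u.v < 3 ^ 2 := hu
  have h2 : v.v < 3 ^ 2 := hv
  refine ⟨by omega, ?_⟩
  rwa [show (9 * u.v + v.v) / 9 = u.v by omega, show (9 * u.v + v.v) % 9 = v.v by omega, el_v, el_v]

theorem glP.to {T : Subgroup G} {E : FusionSystem T} {u v : G} (h : glP E (9 * u.v + v.v)) (hv : v ∈ Z2) :
    M2 E u v := by
  have h2 : v.v < 3 ^ 2 := hv
  have := h.2
  rwa [show (9 * u.v + v.v) / 9 = u.v by omega, show (9 * u.v + v.v) % 9 = v.v by omega, el_v, el_v] at this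

/-- conjugation by `y` -/
theorem M2_y : M2 F z1 (el 4) :=
  ⟨fun x => y * x * y⁻¹, isMap_conj F le_top (Subgroup.mem_top y), BD.of (by decide +kernel),
    BD.of (by decide +kernel)⟩

/-- `t = (z1, el 4)`, `m = (χ z1, χ z2)` (`exists_chi`, `mapZ2`: `χ z1 ∈ Z2 \ Z1`, `Zg (χ z2)`) and a map of determinant `-1`
generate `GL₂(3)`.  Finite: the set of pairs of numbers `(a, b)`, `a, b < 9`, with `M2 F (el a) (el b)` is closed under
composition (`M2.comp`; on numbers: 2 × 2 matrices mod 3); e.g. first `-1 = (t^a m t m⁻¹ t^a)²` (`m⁻¹ = m^23`), then the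
12 targets are words in `t`, `-1` and `κ` (first alternative), or conjugate `(7, 4)` by `t, m`-words; or iterate the closure
of `{t, m, κ}` as a bit mask in the kernel. -/
theorem M2_all (hF : F.IsSaturated 3) (hz : Cl F z2)
    (hk : (∃ v, M2 F z1 v ∧ v * z2 ∈ Z1) ∨ M2 F (el 7) (el 4)) {u v : G} (hu : Zg u) (hv : v ∈ Z2) (hv' : v ∉ Z1) :
    M2 F u v := by
  obtain ⟨χ, h1, h2, h3, h4⟩ := exists_chi hF hz
  have le : Z2 ≤ E1 := L_mono (by norm_num)
  have Z12 : Z1 ≤ Z2 := L_mono (by norm_num)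
  have a1 : χ z1 ∈ Z2 := mapZ2 h1.homOn h2 gl_z1
  have hm : glP F (9 * (χ z1).v + (χ z2).v) := glP.of ⟨χ, h1.mono le, rfl, rfl⟩ a1 (Z12 h3.mem)
  have ht : glP F 13 := ⟨by norm_num, M2_y⟩
  obtain ⟨k, k1, k2⟩ : ∃ k ∈ [15, 16, 17, 67], glP F k := by
    rcases hk with ⟨w, w1, w2⟩ | hk
    · have w3 : w ∈ Z2 := by
        have := mul_mem (Z12 w2) (inv_mem gl_z2)
        rwa [mul_inv_cancel_right] at this
      have : ∀ w ∈ Z2, w * z2 ∈ Z1 → ∃ k ∈ [15, 16, 17, 67], 9 * z1.v + w.v = k := BD.of (by decide +kernel)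
      obtain ⟨k, k1, k2⟩ := this w w3 w2
      exact ⟨k, k1, k2 ▸ glP.of w1 gl_z1 w3⟩
    · exact ⟨67, by simp, by norm_num, hk⟩
  refine glP.to (gl_I le_top (gs := [13, 9 * (χ z1).v + (χ z2).v, k]) (fun g hg => ?_) 3 _
    (gl_chk _ (gl_out a1 h4) _ (gl_zg h3) _ k1 _ (gl_zg hu) _ (gl_out hv hv'))) hv
  simp only [List.mem_cons, List.not_mem_nil, or_false] at hg
  rcases hg with rfl | rfl | rfl
  exacts [ht, hm, k2]

/-- `α ∈ Aut_E(Z2)` from `h`; `β = c_y α c_y⁻¹ ∈ Aut_E(Z2)` (`invIn_aut_conj_mem`); `δ = (α⁻¹ β)^2` has `δ^3 = 1`, `δ ≠ 1`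
(evaluate with `sb_eq`; `α⁻¹ = α^7`).  `Z2` is fully normalised in `E`, `autInducedBy E1 Z2 = ⊥` (`Z2_comm`), so
`mem_aut_of_pow` gives `δ = 1`. -/
theorem not_k {E : FusionSystem E1} (hE : E.IsWeaklyNormalIn F 3) : ¬ M2 E (el 7) (el 4) := by
  intro h
  have le : Z2 ≤ E1 := L_mono (by norm_num)
  have hb : M2 E (el 6) (el 8) := by
    obtain ⟨f, hf, f1, f2⟩ := h
    have m1 : f z1 ∈ Z2 := f1 ▸ el_mem_L (by norm_num)
    have m2 : f z2 ∈ Z2 := f2 ▸ el_mem_L (by norm_num)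
    have hy : y ∈ normalizerIn ⊤ Z2 := ⟨trivial, Subgroup.le_normalizer_of_normal (Subgroup.mem_top y)⟩
    have := Inv.sInv hE.2.2 Z2 Z2 f (fun x => y * x * y⁻¹) (fun x => y * f (y⁻¹ * x * y) * y⁻¹) le_rfl le hf
      (fun x hx => gl_map_mem hf.homOn m1 m2 hx) (isMap_conj F le_top (Subgroup.mem_top y))
      (fun x _ => by simp only [mul_assoc, inv_mul_cancel_left, inv_mul_cancel, mul_one])
    rw [img_conj_eq_self hy] at this
    have e1 : y⁻¹ * z1 * y = z1 := BD.of (by decide +kernel)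
    have e2 : y⁻¹ * z2 * y = el 5 := BD.of (by decide +kernel)
    refine ⟨_, this, ?_, ?_⟩
    · rw [e1, f1]
      exact BD.of (by decide +kernel)
    · rw [e2, sb_eq hf.homOn (el_mem_L (by norm_num)), f1, f2, sb]
      exact BD.of (by decide +kernel)
  obtain ⟨-, f, hf, f1, f2⟩ : glP E 13 := by
    refine gl_I le (gs := [67, 62]) (fun g hg => ?_) 2 _ gl_chk2
    simp only [List.mem_cons, List.not_mem_nil, or_false] at hg
    rcases hg with rfl | rfl
    exacts [⟨by norm_num, h⟩, ⟨by norm_num, hb⟩]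
  change f z1 = z1 at f1
  change f z2 = el 4 at f2
  have m1 : f z1 ∈ Z2 := f1.symm ▸ gl_z1
  have m2 : f z2 ∈ Z2 := f2.symm ▸ el_mem_L (by norm_num)
  obtain ⟨δ, hδ, e⟩ := hf.exists_aut' fun x hx => gl_map_mem hf.homOn m1 m2 hx
  have triv : ∀ s ∈ autInducedBy E1 Z2, s = 1 := fun s hs => by
    obtain ⟨g, hg, e⟩ := mem_autInducedBy.1 hs
    exact aut_ext fun x hx => by rw [e x hx, afn_one, Z2_comm hx hg, mul_inv_cancel_right]
  have d1 : afn δ z1 = z1 := (e _ gl_z1).trans f1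
  have d2 : afn δ z2 = z2 * z1 := ((e _ gl_z2).trans f2).trans (BD.of (by decide +kernel))
  have d3 : δ ^ 3 ^ 1 = 1 := by
    have c1 : afn (δ ^ 3 ^ 1) z1 = z1 := by
      rw [pow_one, afn_pow _ _ gl_z1, afn_pow _ _ gl_z1, pow_one, d1, d1, d1]
    have c2 : afn (δ ^ 3 ^ 1) z2 = z2 := by
      have k := homOn_afn δ
      rw [pow_one, afn_pow _ _ gl_z2, afn_pow _ _ gl_z2, pow_one, d2, k _ gl_z2 _ gl_z1, d1, d2,
        k _ (mul_mem gl_z2 gl_z1) _ gl_z1, k _ gl_z2 _ gl_z1, d1, d2]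
      exact BD.of (by decide +kernel)
    refine aut_ext fun x hx => ?_
    rw [sb_eq (homOn_afn _) hx, sb_eq (homOn_afn _) hx, c1, c2, afn_one, afn_one]
  have := triv δ (mem_aut_of_pow hE.1 (fullyNormalized_of_le_normalizer E le
    fun g _ => Subgroup.le_normalizer_of_normal (Subgroup.mem_top g)) hδ d3 fun s hs => by
      rw [triv s hs, mul_one, mul_inv_cancel]
      exact Subgroup.one_mem _)
  rw [this, afn_one] at d2
  exact (BD.of (by decide +kernel) : z2 ≠ z2 * z1) d2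

/-- `pow27`, `mem_aut_of_pow` for `Q = ⊤` (`SpF.exists_AS` turns `f` into a `MulAut G`; or `SpF.mem_of_pow_mem`) -/
theorem inner_of_fix (hF : F.IsSaturated 3) {f : G → G} (hf : IsMap F ⊤ f) (h1 : f z1 = z1) (h2 : f z2 = z2) :
    ∃ s, ∀ x, f x = s * x * s⁻¹ := by
  obtain ⟨φ, hφ, e⟩ := SpF.exists_AS hf
  have h := pow27 φ ((e _).trans h1) ((e _).trans h2)
  have k : ∀ ψ ∈ SpF.AS F, ψ ^ 3 ∈ (MulAut.conj : G →* MulAut G).range →
      ψ ∈ (MulAut.conj : G →* MulAut G).range := fun ψ hψ h =>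
    SpF.mem_of_pow_mem pG hF hψ _ (fun g => ⟨g, rfl⟩) h
  obtain ⟨s, hs⟩ := k φ hφ (k _ (pow_mem hφ 3) (k _ (pow_mem (pow_mem hφ 3) 3) (by
    rw [← pow_mul, ← pow_mul]
    exact h.symm ▸ Subgroup.one_mem _)))
  exact ⟨s, fun x => by rw [← e, ← hs]; rfl⟩

/-- `α z1 ∈ Z1` (`mem_Z1_of_comm`), `α z2 ∈ Z2 \ Z1` (order 3, centralises `α E1`: `card_le_Cz`, `cls`, `cz1 …`).  `hM` gives an
`E`-map `κ` on `Z2` that agrees with `α` (`sb_eq`); `Z2` is receptive in `E` and `Nf ⊤ Z2 κ = ⊤` (take `h = α a`), so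
`κ` extends to `β ∈ Aut_E(⊤)`; `β⁻¹ α` is inner by `inner_of_fix`. -/
theorem aut_le {E : FS} (hF : F.IsSaturated 3) (hE : E.IsSaturated 3) (hEF : E.IsSubsystemOf F)
    (hM : ∀ u v, Zg u → v ∈ Z2 → v ∉ Z1 → M2 E u v) : F.autGroup ⊤ ≤ E.autGroup ⊤ := by
  intro α hα
  have hf : IsMap F ⊤ (afn α) := isMap_afn le_rfl hα
  have t : ∀ x : G, x ∈ (⊤ : Subgroup G) := Subgroup.mem_top
  have le : Z2 ≤ E1 := L_mono (by norm_num)
  have Z12 : Z1 ≤ Z2 := L_mono (by norm_num)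
  have hu : Zg (afn α z1) := by
    have : afn α z1 ∈ Z1 := mem_Z1_of_comm fun a => by
      rw [← afn_afn_inv α (t a), ← hf.map_mul (t _) (t _), ← hf.map_mul (t _) (t _),
        Z1_comm (Zg.mem (Or.inl rfl))]
    exact (mem_Z1.1 this).resolve_left fun e => Zg.ne_one (Or.inl rfl) ((hf.eq_one_iff (t _)).1 e)
  have hv : afn α z2 ∈ Z2 := by
    have c := card_le_Cz (hf.mono (le_top : E1 ≤ ⊤)) (le gl_z2) fun p hp => Z2_comm gl_z2 hp
    rw [card_L (by norm_num)] at c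
    have p3 : afn α z2 ^ 3 = 1 := by
      rw [← hf.map_pow (t _), show z2 ^ 3 = 1 from BD.of (by decide +kernel), hf.map_one]
    rcases cls p3 with h | h | h | h | h | h | h
    · exact h
    · rw [cz1 h] at c; norm_num at c
    · rw [cz2 h] at c; norm_num at c
    · rw [cz3 h] at c; norm_num at c
    · rw [cz4 h] at c; norm_num at c
    · rw [cz5 h] at c; norm_num at c
    · rw [cz6 h] at c; norm_num at c
  have hv' : afn α z2 ∉ Z1 := fun h => (BD.of (by decide +kernel) : y * z2 ≠ z2 * y)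
    (hf.inj (t _) (t _) (by rw [hf.map_mul (t _) (t _), hf.map_mul (t _) (t _), Z1_comm h]))
  obtain ⟨κ, hκ, k1, k2⟩ := hM _ _ hu hv hv'
  have hα2 : IsMap E Z2 (afn α) := hκ.congr fun x hx => by
    rw [sb_eq hκ.homOn hx, sb_eq (hf.homOn.mono le_top) hx, k1, k2]
  have nZ : (⊤ : Subgroup G) ≤ Subgroup.normalizer (Z2 : Set G) := Subgroup.le_normalizer_of_normal
  obtain ⟨g, hg, e⟩ := receptive_extend (R := ⊤)
    (sat_receptive_of_fullyNormalized pG hE (fullyNormalized_of_le_normalizer E le_top nZ)) hα2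
    (hα2.img_eq_self fun x hx => gl_map_mem hα2.homOn (Z12 hu.mem) hv hx)
    (hf.le_Nf_of_ext le_top (fun x hx => ⟨hx, nZ hx⟩) fun _ _ => rfl)
  obtain ⟨β, hβ, eβ⟩ := hg.exists_aut' fun x _ => t _
  have hβF : β ∈ F.autGroup ⊤ := (mem_autGroup le_rfl).2 ((isMap_afn le_rfl hβ).of_sub hEF)
  have fx : ∀ x ∈ Z2, afn (β⁻¹ * α) x = x := fun x hx => by
    rw [afn_mul _ _ (t _), ← e x hx, ← eβ x (t _), afn_inv_afn _ (t _)]
  obtain ⟨s, hs⟩ := inner_of_fix hF (isMap_afn le_rfl (mul_mem (inv_mem hβF) hα)) (fx _ gl_z1) (fx _ gl_z2)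
  have := mul_mem hβ (mem_autGroup_of_isMap (isMap_conj E le_rfl (t s)) fun x _ => hs x)
  rwa [mul_inv_cancel_left] at this

end Cfsg.Agent.T3F
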