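import Cfsg.Agent.T3F.C2
import Cfsg.Agent.T3F.C5
import Cfsg.Agent.T3F.CB2
import Cfsg.Agent.T3F.GL

/-! Saturated fusion systems with trivial core on the model `G` are simple. -/

set_option autoImplicit false

namespace Cfsg.Agent.T3F

open Cfsg.Agent.Fus Cfsg.FusionSystem

variable {F : FS}

theorem dich (hF : F.IsSaturated 3) (hc : F.core = ⊥) :
    Cl F z2 ∧ ((∃ ψ, CaseA F ψ) ∨ ∃ g, CaseB F g) := by
  by_cases h1 : ∃ w, Cl F w ∧ w ∈ Z3 ∧ w ∉ Z2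
  · obtain ⟨w, a, b, c⟩ := h1
    exact ⟨(caseA hF a b c).1, Or.inl (caseA hF a b c).2⟩
  have h1' : ∀ w, Cl F w → w ∈ Z3 → w ∈ Z2 := fun w a b => by_contra fun c => h1 ⟨w, a, b, c⟩
  have hJ := noJ hF h1'
  have h3 := no3 hF hJ
  have h5 := no5 hF hJ h3
  by_cases h4 : ∃ w, Cl F w ∧ Ty R4 w
  · obtain ⟨w, a, b⟩ := h4
    obtain ⟨g, hg⟩ := caseB hF hJ h3 h5 a b
    exact ⟨hg.cl hF, Or.inr ⟨g, hg⟩⟩
  have key : ∀ w, Cl F w → w ∈ Z2 ∨ Ty R6 w := fun w a => by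
    rcases cls a.pow with h | h | h | h | h | h | h
    · exact Or.inl h
    · exact Or.inl (h1' w a h.mem_Z3.1)
    · exact Or.inl (hJ w a h.mem_J.1)
    · exact absurd h (h3 w a)
    · exact absurd ⟨w, a, h⟩ h4
    · exact absurd h (h5 w a)
    · exact Or.inr h
  have h6 := no6 hF fun w a b => (key w a).resolve_right fun h => h.not_E1 b
  obtain ⟨x, a, b⟩ := exists_out hF hc
  exact absurd ((key x a).resolve_left b) (h6 x a)

theorem allM2 (hF : F.IsSaturated 3) (hc : F.core = ⊥) (u v : G) (hu : Zg u) (hv : v ∈ Z2) (hv' : v ∉ Z1) :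
    M2 F u v := by
  obtain ⟨hz, ⟨ψ, h⟩ | ⟨g, h⟩⟩ := dich hF hc
  · exact M2_all hF hz (Or.inl h.kap) hu hv hv'
  · exact M2_all hF hz (Or.inr (h.kF hF)) hu hv hv'

theorem simple (hF : F.IsSaturated 3) (hc : F.core = ⊥) : F.IsSimple 3 := by
  refine ⟨hF, fun h => ?_, fun T E hE => ?_⟩
  · exact Zg.ne_one (Or.inl rfl) (Subgroup.mem_bot.1 (h ▸ Subgroup.mem_top z1))
  refine or_iff_not_imp_left.2 fun h0 => ?_
  have hI := hE.1.2.2
  have hT : T = ⊤ := by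
    obtain ⟨hz, ⟨ψ, h⟩ | ⟨g, h⟩⟩ := dich hF hc
    · exact scA hF hz h hI.2.1 h0
    · have h1 := scB hF h hI.2.1 h0
      by_cases h2 : T ≤ E1
      · obtain rfl : T = E1 := le_antisymm h2 h1
        exact absurd (h.kE hF hI le_rfl) (not_k hE.1)
      · obtain ⟨u, hu, hu'⟩ := SetLike.not_le_iff_exists.1 h2
        exact top_le_iff.1 (L_ten ▸ step (by norm_num) h1 hu u.lt hu')
  subst hT
  have hcE : E.core = ⊥ := by rw [core_eq_inf_of_weaklyNormal pG hE.1, hc, bot_inf_eq]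
  have : E = F := (invariant_iff.1 hI).2.2.2.eq_of_top hI.1 (aut_le hF hE.1.1 hI.1 (allM2 hE.1.1 hcE))
  exact ⟨rfl, fun _ => this ▸ rfl⟩

end Cfsg.Agent.T3F
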