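import Cfsg.Agent.T3F.Fin

/-! Centralisers of the class representatives (all checked by computer).  A direct count
`(card_count (· ∈ Cz (el r))).trans (by decide +kernel)` costs 30 s for each `r`; it is cheaper to use cosets:
if `Z2 ≤ Cz r` then `a ∈ Cz r ↔ el (9 * (a.v / 9)) ∈ Cz r` (`spl9`), so a count of
`fun a => a.v / 9 …` can be organised as `9 *` a count over `6561` numbers; for `r ∈ J` use `spl243` (243 cosets).
You may split this file (extra files are fine). -/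

set_option autoImplicit false
set_option maxRecDepth 100000
set_option Elab.async false

namespace Cfsg.Agent.T3F

open Cfsg.Agent.Comp Cfsg.Agent.X32 Cfsg.Agent.Fus Cfsg.FusionSystem
open scoped commutatorElement

theorem cz_sum_range (f : ℕ → ℕ) (m n : ℕ) :
    ∑ i ∈ Finset.range (m * n), f i = ∑ q ∈ Finset.range n, ∑ s ∈ Finset.range m, f (m * q + s) := by
  induction n with
  | zero => simp
  | succ n ih => rw [Nat.mul_succ, Finset.sum_range_add, ih, Finset.sum_range_succ]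

theorem cz_sum (H : Subgroup G) {g : G → Bool} [∀ a, BD (a ∈ H) (g a)] :
    Nat.card H = ∑ q ∈ Finset.range 243,
      ((Finset.range 243).filter fun s => g (el (243 * q + s)) = true).card := by
  have := TG.card_eq (T := FT) (· ∈ H) (f := g)
  rw [cntLT_eq, Finset.card_filter] at this
  refine this.trans ((cz_sum_range _ 243 243).trans ?_)
  simp only [Finset.card_filter]
  rfl

/-- counting, skipping the cosets of `J` that fail the test `F` -/
theorem cz_cardF (H : Subgroup G) (F : ℕ → Prop) (hF : ∀ a ∈ H, F (a.v / 243))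
    {f : ℕ → Bool} [∀ q, BD (F q) (f q)] {g : G → Bool} [∀ a, BD (a ∈ H) (g a)] :
    Nat.card H = sumLT 243 fun q => force q fun q => ite' (f q) (force (Nat.mul 243 q) fun t =>
      cntLT 243 fun s => force (Nat.add t s) fun n => g (el n)) 0 := by
  rw [cz_sum H, sumLT_eq]
  refine Finset.sum_congr rfl fun q hq => ?_
  simp only [force_eq, ite'_eq, cntLT_eq]
  split_ifs with h
  · rfl
  · refine Finset.card_eq_zero.2 (Finset.filter_eq_empty_iff.2 fun s hs e => h ?_)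
    rw [Finset.mem_range] at hq hs
    have := hF _ (BD.h.1 e)
    rw [v_el (by omega), show (243 * q + s) / 243 = q by omega] at this
    exact BD.h.2 this

theorem cz_mod243 (x : G) : el (x.v % 243) ∈ J := el_mem_L (Nat.mod_lt _ (by norm_num))
theorem cz_mod9 (x : G) : el (x.v % 9) ∈ Z2 := el_mem_L (Nat.mod_lt _ (by norm_num))

/-- counting a subgroup containing `J` -/
theorem cz_cardJ (H : Subgroup G) (hJ : J ≤ H) {g : G → Bool} [∀ a, BD (a ∈ H) (g a)] :
    Nat.card H = sumLT 243 fun q => force (Nat.mul 243 q) fun t => ite' (g (el t)) 243 0 := by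
  rw [cz_sum H, sumLT_eq]
  refine Finset.sum_congr rfl fun q hq => ?_
  rw [Finset.mem_range] at hq
  have key : ∀ s < 243, (g (el (243 * q + s)) = true ↔ g (el (243 * q)) = true) := fun s hs => by
    have e := spl243 (el (243 * q + s))
    have e' := cz_mod243 (el (243 * q + s))
    rw [v_el (by omega)] at e e'
    rw [show (243 * q + s) / 243 = q by omega] at e
    rw [BD.h (p := el (243 * q + s) ∈ H), BD.h (p := el (243 * q) ∈ H), ← e,
      H.mul_mem_cancel_right (hJ e')]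
  simp only [force_eq, ite'_eq]
  change _ = if g (el (243 * q)) = true then 243 else 0
  split_ifs with h
  · rw [Finset.filter_true_of_mem fun s hs => (key s (Finset.mem_range.1 hs)).2 h, Finset.card_range]
  · exact Finset.card_eq_zero.2 (Finset.filter_eq_empty_iff.2 fun s hs e =>
      h ((key s (Finset.mem_range.1 hs)).1 e))

theorem cz_top {a r : G} (ha : a ∈ Cz r) :
    (el (243 * (a.v / 243)))⁻¹ * r⁻¹ * el (243 * (a.v / 243)) * r = ⁅el (a.v % 243), r⁻¹⁆ := by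
  have e := spl243 a
  rw [mem_Cz, ← e] at ha
  generalize el (243 * (a.v / 243)) = t at ha ⊢
  generalize el (a.v % 243) = j at ha ⊢
  rw [commutatorElement_def, inv_inv]
  calc t⁻¹ * r⁻¹ * t * r = t⁻¹ * r⁻¹ * (t * j * r) * (r⁻¹ * j⁻¹ * r) := by group
    _ = _ := by rw [ha]; group

theorem cz_topZ {a r : G} (hr : r ∈ E1) (ha : a ∈ Cz r) :
    (el (243 * (a.v / 243)))⁻¹ * r⁻¹ * el (243 * (a.v / 243)) * r ∈ Z2 :=
  cz_top ha ▸ comm_J (cz_mod243 a) (inv_mem hr)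

theorem cz_topJ {a r : G} (ha : a ∈ Cz r) :
    (el (243 * (a.v / 243)))⁻¹ * r⁻¹ * el (243 * (a.v / 243)) * r ∈ J := by
  rw [cz_top ha, commutatorElement_def, mul_assoc, mul_assoc]
  exact mul_mem (cz_mod243 a) (by
    simpa only [mul_assoc] using (normal_L 5).conj_mem _ (inv_mem (cz_mod243 a)) r⁻¹)

theorem cz_Z2 {r : G} (hr : r ∈ E1) : Z2 ≤ Cz r := fun _ hw => mem_Cz.2 (Z2_comm hw hr).symm

/-- the elements of `Cz r` modulo `Z2` -/
theorem cz_all {r : G} (hr : r ∈ E1) {p : G → Prop}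
    (h : AllN 243 fun q => (el (243 * q))⁻¹ * r⁻¹ * el (243 * q) * r ∈ Z2 →
      AllN 27 fun s => el (243 * q + 9 * s) ∈ Cz r → p (el (243 * q + 9 * s)))
    {a : G} (ha : a ∈ Cz r) : ∃ u, ∃ w ∈ Z2, a = u * w ∧ p u := by
  have := v_lt a
  have e := spl9 a
  refine ⟨_, _, cz_mod9 a, e.symm, ?_⟩
  have h1 : el (9 * (a.v / 9)) ∈ Cz r := by
    rwa [← e, (Cz r).mul_mem_cancel_right (cz_Z2 hr (cz_mod9 a))] at ha
  rw [show 9 * (a.v / 9) = 243 * (a.v / 243) + 9 * (a.v % 243 / 9) by omega] at h1 ⊢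
  exact h _ (by omega) (cz_topZ hr ha) _ (by omega) h1

theorem cz_inv (x : G) : Cz x⁻¹ = Cz x := Subgroup.ext fun a => by
  rw [mem_Cz, mem_Cz]
  exact Commute.inv_right_iff

theorem cz_conj (s x : G) : Nat.card (Cz (s * x * s⁻¹)) = Nat.card (Cz x) := by
  have : Cz (s * x * s⁻¹) = (Cz x).map (MulAut.conj s).toMonoidHom := Subgroup.ext fun a => by
    rw [Subgroup.mem_map_equiv, mem_Cz, mem_Cz, MulAut.conj_symm_apply]
    constructor
    · intro h
      calc s⁻¹ * a * s * x = s⁻¹ * (a * (s * x * s⁻¹)) * s := by group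
        _ = _ := by rw [h]; group
    · intro h
      calc a * (s * x * s⁻¹) = s * (s⁻¹ * a * s * x) * s⁻¹ := by group
        _ = _ := by rw [h]; group
  rw [this, Subgroup.card_map_of_injective (MulAut.conj s).injective]

theorem Cj.card_Cz {x r : G} (h : Cj x r) : Nat.card (Cz x) = Nat.card (Cz r) := by
  obtain ⟨s, rfl | rfl⟩ := h
  · rw [cz_conj]
  · rw [cz_conj, cz_inv]

theorem cz_ty {l : List ℕ} {n : ℕ} (hl : ∀ r ∈ l, Nat.card (Cz (el r)) = n) {x : G} (h : Ty l x) :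
    Nat.card (Cz x) = n :=
  let ⟨r, hr, e⟩ := h
  e.card_Cz.trans (hl r hr)

theorem cz_J {r : G} (hr : r ∈ J) : J ≤ Cz r := fun _ hw => mem_Cz.2 (J_comm hw hr)

theorem cz_cntJ {l : List ℕ} {n : ℕ} (h : (allL l fun r => and' (Nat.blt r 243) (Nat.beq n (sumLT 243 fun q =>
    force (Nat.mul 243 q) fun t => ite' (Nat.beq (FT.mu t r) (FT.mu r t)) 243 0))) = true) :
    ∀ r ∈ l, Nat.card (Cz (el r)) = n := fun r hr => by
  simp only [allL_iff, and'_eq_true, blt_iff, beq_iff] at h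
  obtain ⟨h1, h2⟩ := h r hr
  rw [cz_cardJ _ (cz_J (el_mem_L (k := 5) h1)), h2, sumLT_eq, sumLT_eq]
  refine Finset.sum_congr rfl fun q hq => ?_
  rw [Finset.mem_range] at hq
  simp only [force_eq]
  rw [v_el (n := r) (by omega), v_el (n := Nat.mul 243 q) (by change 243 * q < _; omega)]

theorem cz_cntF {l : List ℕ} {n : ℕ} (k : ℕ)
    (hk : ∀ r ∈ l, ∀ a ∈ Cz (el r),
      (el (243 * (a.v / 243)))⁻¹ * (el r)⁻¹ * el (243 * (a.v / 243)) * el r ∈ L k)
    (h : (allL l fun r => force (el r).v fun r => Nat.beq n (sumLT 243 fun q => force q fun q =>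
      ite' (Nat.blt (FT.mu (FT.mu (FT.mu (FT.iv (el (243 * q)).v) (FT.iv r)) (el (243 * q)).v) r) (Nat.pow 3 k))
        (force (Nat.mul 243 q) fun t => cntLT 243 fun s => force (Nat.add t s) fun n =>
          force (el n).v fun m => force r fun n => Nat.beq (FT.mu m n) (FT.mu n m)) 0)) = true) :
    ∀ r ∈ l, Nat.card (Cz (el r)) = n := fun r hr => by
  simp only [allL_iff] at h
  have h2 := h r hr
  rw [force_eq, beq_iff] at h2
  rw [cz_cardF _ (fun q => (el (243 * q))⁻¹ * (el r)⁻¹ * el (243 * q) * el r ∈ L k) (hk r hr), h2]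

theorem cz1 {x : G} (h : Ty R1 x) : Nat.card (Cz x) = 6561 := cz_ty (cz_cntJ (by decide +kernel)) h
theorem cz2 {x : G} (h : Ty R2 x) : Nat.card (Cz x) = 2187 := cz_ty (cz_cntJ (by decide +kernel)) h
theorem cz3 {x : G} (h : Ty R3 x) : Nat.card (Cz x) = 729 :=
  cz_ty (cz_cntF 2 (fun r hr _ ha => cz_topZ
    ((BD.of (by decide +kernel) : ∀ r ∈ R3, el r ∈ E1) r hr) ha) (by decide +kernel)) h
theorem cz5 {x : G} (h : Ty R5 x) : Nat.card (Cz x) = 243 :=
  cz_ty (cz_cntF 2 (fun r hr _ ha => cz_topZ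
    ((BD.of (by decide +kernel) : ∀ r ∈ R5, el r ∈ E1) r hr) ha) (by decide +kernel)) h
theorem cz6 {x : G} (h : Ty R6 x) : Nat.card (Cz x) = 81 :=
  cz_ty (cz_cntF 5 (fun _ _ _ ha => cz_topJ ha) (by decide +kernel)) h

theorem cz_v0 : el 2916 ∈ E1 := el_mem_L (by norm_num)

theorem card_V : Nat.card V = 243 :=
  cz_cntF (l := [2916]) 2 (fun r hr _ ha => cz_topZ (List.mem_singleton.1 hr ▸ cz_v0) ha)
    (by decide +kernel) 2916 (List.mem_singleton.2 rfl)

/-- `V = ⟨v0, v1⟩ (V ⊓ J)` with `v0 = el 2916`, `v1 = el 6849` (`V ≤ E1` as `z2 ∈ Z(V)`...; check over `E1` modulo `Z2`) -/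
theorem V_cos {v : G} (h : v ∈ V) : ∃ i ∈ [0, 1, 2], ∃ j ∈ [0, 1, 2], ∃ k ∈ [0, 1, 2], ∃ w ∈ Z2,
    v = el 2916 ^ i * el 6849 ^ j * el 90 ^ k * w := by
  obtain ⟨u, w, hw, rfl, i, hi, j, hj, k, hk, e⟩ := cz_all cz_v0 (p := fun u => ∃ i ∈ [0, 1, 2],
    ∃ j ∈ [0, 1, 2], ∃ k ∈ [0, 1, 2], (el 2916 ^ i * el 6849 ^ j * el 90 ^ k)⁻¹ * u ∈ Z2)
    (BD.of (by decide +kernel)) h
  exact ⟨i, hi, j, hj, k, hk, _, mul_mem e hw, by group⟩

theorem cz_V_le {H : Subgroup G} (h1 : el 2916 ∈ H) (h2 : el 6849 ∈ H) (h3 : el 90 ∈ H) (h4 : Z2 ≤ H) :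
    V ≤ H := fun v hv => by
  obtain ⟨i, -, j, -, k, -, w, hw, rfl⟩ := V_cos hv
  exact mul_mem (mul_mem (mul_mem (pow_mem h1 _) (pow_mem h2 _)) (pow_mem h3 _)) (h4 hw)

theorem V_le : V ≤ E1 :=
  cz_V_le cz_v0 (el_mem_L (by norm_num)) (el_mem_L (by norm_num)) (L_mono (by norm_num))
theorem Z2_le_V : Z2 ≤ V := cz_Z2 cz_v0
theorem V_comm {a b : G} (ha : a ∈ V) (hb : b ∈ V) : a * b = b * a := by
  obtain ⟨c1, c2, c3, c4, c5, c6⟩ : el 2916 ∈ Cz (el 6849) ∧ el 6849 ∈ Cz (el 6849) ∧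
      el 90 ∈ Cz (el 6849) ∧ el 2916 ∈ Cz (el 90) ∧ el 6849 ∈ Cz (el 90) ∧ el 90 ∈ Cz (el 90) :=
    BD.of (by decide +kernel)
  exact mem_Cz.1 (cz_V_le (mem_Cz.2 (mem_Cz.1 hb).symm)
    (mem_Cz.2 (mem_Cz.1 (cz_V_le c1 c2 c3 (cz_Z2 (el_mem_L (by norm_num))) hb)).symm)
    (mem_Cz.2 (mem_Cz.1 (cz_V_le c4 c5 c6 (cz_Z2 (el_mem_L (by norm_num))) hb)).symm)
    (cz_Z2 (V_le hb)) ha)
theorem V_pow {a : G} (ha : a ∈ V) : a ^ 3 = 1 := by
  obtain ⟨u, w, hw, rfl, hu, e⟩ := cz_all cz_v0 (p := fun u => u ∈ E1 ∧ u ^ 3 = 1)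
    (BD.of (by decide +kernel)) ha
  rw [Commute.mul_pow (Z2_comm hw hu), e, J_pow (L_mono (by norm_num) hw), one_mul]
theorem card_VJ : Nat.card (V ⊓ J : Subgroup G) = 27 :=
  (cz_cardF (V ⊓ J) (· = 0) fun _ ha => Nat.div_eq_of_lt (Subgroup.mem_inf.1 ha).2).trans
    (by decide +kernel)
theorem R4_mem : ∀ r ∈ R4, el r ∈ V ∧ el r ∉ J := BD.of (by decide +kernel)

/-- every element of `V \ J` has centraliser `V`: check the 12 representatives (modulo `Z2`, or count) -/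
theorem Cz_R4 : ∀ r ∈ R4, Cz (el r) = V := fun r hr => by
  have key : ∀ r ∈ R4, AllN 243 fun q => (el (243 * q))⁻¹ * (el r)⁻¹ * el (243 * q) * el r ∈ Z2 →
      AllN 27 fun s => el (243 * q + 9 * s) ∈ Cz (el r) → el (243 * q + 9 * s) ∈ V :=
    BD.of (by decide +kernel)
  refine le_antisymm (fun a ha => ?_) fun a ha => mem_Cz.2 (V_comm ha (R4_mem r hr).1)
  obtain ⟨u, w, hw, rfl, hu⟩ := cz_all (V_le (R4_mem r hr).1) (p := (· ∈ V)) (key r hr) ha
  exact mul_mem hu (Z2_le_V hw)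

theorem cz4 {x : G} (h : Ty R4 x) : Nat.card (Cz x) = 243 :=
  cz_ty (fun r hr => by rw [Cz_R4 r hr, card_V]) h

end Cfsg.Agent.T3F
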