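import Cfsg.Agent.T3F.Cls
import Cfsg.Agent.T3F.Cz

/-! The class of the centre in a saturated fusion system on `G`: basic tools.
API: `Cfsg/Agent/Fus/Fn.lean` (`IsMap`, `img`, `HomOn`), `Fus/SatFn.lean`, `Fus/Sat.lean`, `Fus/Normal.lean`;
`pG : IsPGroup 3 ⊤`. -/

set_option autoImplicit false
set_option maxRecDepth 100000
set_option Elab.async false

namespace Cfsg.Agent.T3F

open Cfsg.Agent.Comp Cfsg.Agent.X32 Cfsg.Agent.Fus Cfsg.FusionSystem
open scoped commutatorElement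

variable {F : FS}

theorem Cl.of_zg {u : G} (h : Zg u) : Cl F u := ⟨fun x => x, isMap_id F le_top, h⟩

/-- compose the inverse of `f` on `zpowers (f x)` with the map given by `h` -/
theorem Cl.map {P : Subgroup G} {f : G → G} {x : G} (h : Cl F x) (hf : IsMap F P f) (hx : x ∈ P) :
    Cl F (f x) := by
  obtain ⟨g, hg, hz⟩ := h
  obtain ⟨k, hk, h1, h2⟩ := (hf.mono (Subgroup.zpowers_le.2 hx)).exists_inv
  have hle : Subgroup.zpowers (f x) ≤ img (Subgroup.zpowers x) f :=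
    Subgroup.zpowers_le.2 (mem_img_of_mem f (Subgroup.mem_zpowers x))
  refine ⟨fun u => g (k u), hg.comp' (hk.mono hle) fun u hu => (h2 u (hle hu)).1, ?_⟩
  show Zg (g (k (f x)))
  rwa [h1 x (Subgroup.mem_zpowers x)]

theorem Cl.of_map {P : Subgroup G} {f : G → G} {x : G} (h : Cl F (f x)) (hf : IsMap F P f) (hx : x ∈ P) :
    Cl F x := by
  obtain ⟨g, hg, hz⟩ := h
  refine ⟨fun u => g (f u), hg.comp' (hf.mono (Subgroup.zpowers_le.2 hx)) ?_, hz⟩
  rintro _ ⟨n, rfl⟩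
  exact ⟨n, (hf.map_zpow hx n).symm⟩

theorem Cl.inv {x : G} (h : Cl F x) : Cl F x⁻¹ := by
  obtain ⟨g, hg, hz⟩ := h
  refine ⟨g, by rwa [Subgroup.zpowers_inv], ?_⟩
  rw [hg.map_inv (Subgroup.mem_zpowers x)]
  rcases hz with e | e
  · exact Or.inr (by rw [e])
  · exact Or.inl (by rw [e, inv_inv])

theorem Cl.cj {x r : G} (h : Cj x r) : Cl F x ↔ Cl F r := by
  obtain ⟨s, hs⟩ := h
  have hm : IsMap F ⊤ fun u => s * u * s⁻¹ := isMap_conj F le_rfl (Subgroup.mem_top s)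
  rcases hs with rfl | rfl
  · exact ⟨fun h => h.map hm (Subgroup.mem_top x), fun h => Cl.of_map h hm (Subgroup.mem_top x)⟩
  · exact ⟨fun h => h.inv.map hm (Subgroup.mem_top x⁻¹),
      fun h => inv_inv x ▸ (Cl.of_map (f := fun u => s * u * s⁻¹) (x := x⁻¹) h hm (Subgroup.mem_top _)).inv⟩

theorem Cl.conj {x : G} (h : Cl F x) (s : G) : Cl F (s * x * s⁻¹) := (Cl.cj ⟨s, Or.inl rfl⟩).1 h

theorem Cl.pow {x : G} (h : Cl F x) : x ^ 3 = 1 := by
  obtain ⟨g, hg, hz⟩ := h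
  have m := Subgroup.mem_zpowers x
  rw [← hg.eq_one_iff (pow_mem m 3), hg.map_pow m]
  exact J_pow (L_mono (by norm_num) hz.mem)

theorem Cl.ne_one {x : G} (h : Cl F x) : x ≠ 1 := by
  obtain ⟨g, hg, hz⟩ := h
  exact fun e => hz.ne_one ((hg.eq_one_iff (Subgroup.mem_zpowers x)).2 e)

theorem Cl.mem {T : Subgroup G} (hT : F.StronglyClosed T) (h1 : z1 ∈ T) {x : G} (h : Cl F x) : x ∈ T := by
  obtain ⟨g, hg, hz⟩ := h
  obtain ⟨k, hk, h2, -⟩ := hg.exists_inv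
  have m := Subgroup.mem_zpowers x
  rw [← h2 x m]
  refine hk.mem_of_stronglyClosed hT (mem_img_of_mem g m) ?_
  rcases hz with e | e
  · exact e ▸ h1
  · exact e ▸ inv_mem h1

theorem Cl.ty {l : List ℕ} {x : G} (h : Cl F x) (ht : Ty l x) : ∃ r ∈ l, Cl F (el r) :=
  let ⟨r, hr, hc⟩ := ht; ⟨r, hr, (Cl.cj hc).1 h⟩

theorem Cl.to_z2 {w : G} (h : Cl F w) (h1 : w ∈ Z2) (h2 : w ∉ Z1) : Cl F z2 := (Cl.cj (Cj_Z2 h1 h2)).1 h

theorem Cl.of_z2 (h : Cl F z2) {w : G} (h1 : w ∈ Z2) (h2 : w ≠ 1) : Cl F w := by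
  by_cases h3 : w ∈ Z1
  · exact Cl.of_zg ((mem_Z1.1 h3).resolve_left h2)
  · exact (Cl.cj (Cj_Z2 h1 h3)).2 h

/-- `img (zpowers x) f = Z1` is fully centralised (its centraliser is everything): `sat_extend_centralizer` -/
theorem Cl.ext (hF : F.IsSaturated 3) {x : G} (h : Cl F x) : ∃ f, IsMap F (Cz x) f ∧ Zg (f x) := by
  obtain ⟨f, hf, hz⟩ := h
  have m := Subgroup.mem_zpowers x
  have h1 : img (Subgroup.zpowers x) f ≤ Z1 := img_le_iff.2 (by
    rintro _ ⟨n, rfl⟩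
    exact (hf.map_zpow m n).symm ▸ zpow_mem hz.mem n)
  have hc : F.IsFullyCentralized (img (Subgroup.zpowers x) f) := ⟨le_top, fun Q _ =>
    Subgroup.card_le_of_le fun a _ => Subgroup.mem_inf.2 ⟨Subgroup.mem_top a,
      Subgroup.mem_centralizer_iff.2 fun u hu => (Z1_comm (h1 hu) a).symm⟩⟩
  obtain ⟨g, hg, e⟩ := sat_extend_centralizer pG hF hf hc
  refine ⟨g, hg.mono (le_trans (fun a ha => Subgroup.mem_inf.2 ⟨Subgroup.mem_top a,
    Subgroup.mem_centralizer_iff.2 ?_⟩) le_sup_right), (e x m).symm ▸ hz⟩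
  rintro _ ⟨n, rfl⟩
  exact ((show Commute a x from mem_Cz.1 ha).zpow_right n).symm

/-- Otherwise the class lies in `Z2`.  If it meets `Z2 \ Z1` then `Z2` is strongly closed (`Cl.of_z2`), else
`Z1` is; an abelian strongly closed subgroup is normal (`isNormal_of_abelian`, `le_core`). -/
theorem exists_out (hF : F.IsSaturated 3) (hc : F.core = ⊥) : ∃ x, Cl F x ∧ x ∉ Z2 := by
  by_contra h
  push Not at h
  have z : Zg z1 := Or.inl rfl
  have key : ∀ Q : Subgroup G, Z1 ≤ Q → Q ≤ Z2 → ¬ F.StronglyClosed Q := fun Q h1 h2 hs =>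
    z.ne_one (Subgroup.mem_bot.1 (hc ▸ le_core (isNormal_of_abelian pG hF hs fun a ha b hb =>
      Z2_comm (h2 hb) (L_mono (by norm_num) (h2 ha))) (h1 z.mem)))
  by_cases h2 : Cl F z2
  · refine key Z2 (L_mono (by norm_num)) le_rfl (stronglyClosed_iff.2 ⟨le_top, fun P f hf x hx hQ => ?_⟩)
    by_cases e : x = 1
    · rw [e, hf.map_one]; exact one_mem _
    · exact h _ ((h2.of_z2 hQ e).map hf hx)
  · refine key Z1 le_rfl (L_mono (by norm_num)) (stronglyClosed_iff.2 ⟨le_top, fun P f hf x hx hQ => ?_⟩)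
    rcases mem_Z1.1 hQ with e | e
    · rw [e, hf.map_one]; exact one_mem _
    · have c : Cl F (f x) := (Cl.of_zg e).map hf hx
      by_contra k
      exact h2 (c.to_z2 (h _ c) k)

/-- `not_ind` and injectivity -/
theorem nz3 {P : Subgroup G} {f : G → G} (hf : IsMap F P f) {a b c : G} (ha : a ∈ P) (hb : b ∈ P) (hc : c ∈ P)
    (h : Ind a b c) : f a ∉ Z2 ∨ f b ∉ Z2 ∨ f c ∉ Z2 := by
  by_contra k
  push Not at k
  refine not_ind k.1 k.2.1 k.2.2 fun i hi j hj l hl e => h i hi j hj l hl ?_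
  have m1 := pow_mem ha i
  have m2 := pow_mem hb j
  have m3 := pow_mem hc l
  rwa [← hf.eq_one_iff (mul_mem (mul_mem m1 m2) m3), hf.map_mul (mul_mem m1 m2) m3, hf.map_mul m1 m2,
    hf.map_pow ha, hf.map_pow hb, hf.map_pow hc]

/-- `f P` centralises `f a` -/
theorem card_le_Cz {P : Subgroup G} {f : G → G} (hf : IsMap F P f) {a : G} (ha : a ∈ P)
    (hc : ∀ p ∈ P, p * a = a * p) : Nat.card P ≤ Nat.card (Cz (f a)) :=
  hf.card_le_of_mem le_rfl fun p hp => mem_Cz.2 (by rw [← hf.map_mul hp ha, hc p hp, hf.map_mul ha hp])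

/-- compose `f` with the conjugation taking `(f a)^{±1}` to `r`; `IsMap.img_eq_of_le` -/
theorem land {P : Subgroup G} {f : G → G} (hf : IsMap F P f) {a : G} (ha : a ∈ P)
    (hc : ∀ p ∈ P, p * a = a * p) {r : G} (h : Cj (f a) r) (hcard : Nat.card (Cz r) ≤ Nat.card P) :
    ∃ g, IsMap F P g ∧ img P g = Cz r ∧ (∀ p ∈ P, f p ∈ Z1 → g p = f p) ∧ ∃ s : G, ∀ p, g p = s * f p * s⁻¹ := by
  obtain ⟨s, hs⟩ := h
  have hm : IsMap F P fun p => s * f p * s⁻¹ :=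
    (isMap_conj F (P := ⊤) le_rfl (Subgroup.mem_top s)).comp' hf fun _ _ => Subgroup.mem_top _
  refine ⟨_, hm, hm.img_eq_of_le (fun p hp => mem_Cz.2 ?_) hcard, fun p _ k => ?_, s, fun _ => rfl⟩
  · have c : Commute (f p) (f a) := by
      show f p * f a = f a * f p
      rw [← hf.map_mul hp ha, hc p hp, hf.map_mul ha hp]
    rcases hs with rfl | rfl
    · exact c.map (MulAut.conj s)
    · exact c.inv_right.map (MulAut.conj s)
  · show s * f p * s⁻¹ = f p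
    rw [Z1_comm k s, mul_inv_cancel_right]

/-- Pigeonhole: `H' = {h ∈ H | f h ∈ M}` has index at most `n` in `H`, so `f H' = Z ∋ f x`. -/
theorem pigeon {P H K M Z : Subgroup G} {f : G → G} (hf : IsMap F P f) (hH : H ≤ P) (hK : ∀ h ∈ H, f h ∈ K)
    {n : ℕ} (hn : Nat.card K ≤ n * Nat.card (M ⊓ K : Subgroup G)) (hZ : n * Nat.card Z ≤ Nat.card H)
    (hM : ∀ h ∈ H, f h ∈ M → f h ∈ Z) {x : G} (hx : x ∈ P) (hx' : f x ∈ Z) : x ∈ H := by
  have hf' := hf.mono hH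
  have key : ∀ A : Subgroup G, M.relIndex A * Nat.card (M ⊓ A : Subgroup G) = Nat.card A := fun A => by
    rw [← Nat.card_congr (Subgroup.subgroupOfEquivOfLe (inf_le_right : M ⊓ A ≤ A)).toEquiv,
      Subgroup.inf_subgroupOf_right]
    exact (M.subgroupOf A).index_mul_card
  have hA : img H f ≤ K := img_le_iff.2 hK
  have h1 : M.relIndex (img H f) ≤ M.relIndex K :=
    Subgroup.relIndex_le_of_le_right hA Subgroup.index_ne_zero_of_finite
  have h2 : M.relIndex K ≤ n := by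
    rw [← key K] at hn
    exact Nat.le_of_mul_le_mul_right hn Nat.card_pos
  have h3 : 0 < n := lt_of_lt_of_le (Nat.pos_of_ne_zero Subgroup.index_ne_zero_of_finite) h2
  have h4 : Nat.card Z ≤ Nat.card (M ⊓ img H f : Subgroup G) := by
    rw [← hf'.card_img, ← key (img H f)] at hZ
    exact Nat.le_of_mul_le_mul_left (hZ.trans (Nat.mul_le_mul_right _ (h1.trans h2))) h3
  have h5 : M ⊓ img H f ≤ Z := fun u hu => by
    obtain ⟨v, hv, rfl⟩ := hf'.mem_img.1 hu.2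
    exact hM v hv hu.1
  rw [← Subgroup.eq_of_le_of_card_ge h5 h4] at hx'
  exact hf.mem_of_mem_img hH hx hx'.2

/-- `Cl.ext` for `z2` (`Cz_Z2`).  `x' = χ z1` has order 3, is not in `Z1` (else `χ Z2 ≤ Z1`), and
`3^9 ≤ card (Cz x')` (`card_le_Cz`), so `x' ∈ Z2` by `cls` and `cz1 … cz6`, and `χ E1 ≤ Cz x' = E1`. -/
theorem exists_chi (hF : F.IsSaturated 3) (h : Cl F z2) :
    ∃ χ, IsMap F E1 χ ∧ img E1 χ = E1 ∧ Zg (χ z2) ∧ χ z1 ∉ Z1 := by
  obtain ⟨χ, hχ, hz⟩ := h.ext hF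
  have c : z2 ∈ Z2 ∧ z2 ∉ Z1 ∧ z1 ∈ Z1 ∧ z1 ≠ z2 ∧ z1 ≠ z2⁻¹ ∧ z1 ^ 3 = 1 ∧ z1 ≠ 1 := BD.of (by decide +kernel)
  obtain ⟨c1, c2, c3, c4, c5, c6, c7⟩ := c
  rw [Cz_Z2 c1 c2] at hχ
  have m1 : z1 ∈ E1 := L_mono (by norm_num) c3
  have m2 : z2 ∈ E1 := L_mono (by norm_num) c1
  have h1 : χ z1 ∉ Z1 := fun k => by
    have k' := (mem_Z1.1 k).resolve_left fun e => c7 ((hχ.eq_one_iff m1).1 e)
    have : χ z1 = χ z2 ∨ χ z1 = χ z2⁻¹ := by
      rw [hχ.map_inv m2]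
      rcases k' with e | e <;> rcases hz with e' | e' <;> simp [e, e']
    exact this.elim (fun e => c4 (hχ.inj m1 m2 e)) fun e => c5 (hχ.inj m1 (inv_mem m2) e)
  have h2 := card_le_Cz hχ m1 fun p _ => Z1_comm c3 p
  rw [card_L (by norm_num)] at h2
  have h3 : χ z1 ∈ Z2 := by
    rcases cls (x := χ z1) (by rw [← hχ.map_pow m1, c6, hχ.map_one]) with k | k | k | k | k | k | k
    · exact k
    · rw [cz1 k] at h2; omega
    · rw [cz2 k] at h2; omega
    · rw [cz3 k] at h2; omega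
    · rw [cz4 k] at h2; omega
    · rw [cz5 k] at h2; omega
    · rw [cz6 k] at h2; omega
  refine ⟨χ, hχ, hχ.img_eq_self fun p hp => ?_, hz, h1⟩
  rw [← Cz_Z2 h3 h1, mem_Cz, ← hχ.map_mul hp m1, Z1_comm c3 p, hχ.map_mul m1 hp]

/-- Sylow, normal form: if `Q` is fully normalised, `α ∈ Aut_E(Q)` has `α ^ 3 ^ k = 1` and normalises
`Aut_T(Q)`, then `α ∈ Aut_T(Q)` (`sat_fullyAutomized`; `Aut_T(Q) ⊔ zpowers α` is a 3-group). -/
theorem mem_aut_of_pow {T Q : Subgroup G} {E : FusionSystem T} (hE : E.IsSaturated 3) (hQ : E.IsFullyNormalized Q)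
    {α : MulAut Q} (hα : α ∈ E.autGroup Q) {k : ℕ} (hk : α ^ 3 ^ k = 1)
    (hn : ∀ s ∈ autInducedBy T Q, α * s * α⁻¹ ∈ autInducedBy T Q) : α ∈ autInducedBy T Q := by
  have hs : SylIn 3 (autInducedBy T Q) (E.autGroup Q) := (sat_fullyAutomized (pG.to_le le_top) hE hQ).2
  have hle := autInducedBy_le_autGroup E hQ.1
  have hz : IsPGroup 3 (Subgroup.zpowers α) := isPGroup_zpowers_of_primes fun q hq hd =>
    (Nat.prime_dvd_prime_iff_eq hq Nat.prime_three).1 (hq.dvd_of_dvd_pow (hd.trans (orderOf_dvd_of_pow_eq_one hk)))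
  exact (hs.eq_of_le hle (hz.to_sup_of_normal_right' (hs.isPGroup hle)
    (Subgroup.zpowers_le.2 (mem_normalizer_of_conj_mem hn))) le_sup_right
    (sup_le (Subgroup.zpowers_le.2 hα) hle)).le (Subgroup.mem_sup_left (Subgroup.mem_zpowers α))

/-- Sylow, chain form: the elements of `Aut_F(Q)` acting trivially on the factors of a chain
`⊥ = C 0 ≤ … ≤ C n = Q` form a 3-group (`isPGroup_of_coprime_eq_one`, `fix_of_step` in `Fus/Normal.lean`)
which contains the Sylow subgroup `Aut_S(Q)`. -/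
theorem mem_aut_of_chain (hF : F.IsSaturated 3) {Q : Subgroup G} (hQ : F.IsFullyNormalized Q)
    (C : ℕ → Subgroup G) (n : ℕ) (h0 : C 0 = ⊥) (hn : Q ≤ C n) (hmono : ∀ i < n, C i ≤ C (i + 1))
    (hS : ∀ s ∈ autInducedBy ⊤ Q, ∀ i < n, ∀ x ∈ Q, x ∈ C (i + 1) → afn s x * x⁻¹ ∈ C i)
    {α : MulAut Q} (hα : α ∈ F.autGroup Q) (h : ∀ i < n, ∀ x ∈ Q, x ∈ C (i + 1) → afn α x * x⁻¹ ∈ C i) :
    α ∈ autInducedBy ⊤ Q := by
  have hs : SylIn 3 (autInducedBy ⊤ Q) (F.autGroup Q) := (sat_fullyAutomized pG hF hQ).2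
  have hle := autInducedBy_le_autGroup F hQ.1
  let M : Submonoid (MulAut Q) :=
    { carrier := {β | ∀ i < n, ∀ x ∈ Q, x ∈ C (i + 1) → afn β x * x⁻¹ ∈ C i}
      one_mem' := fun i _ x _ _ => by rw [afn_one, mul_inv_cancel]; exact one_mem _
      mul_mem' := fun {a b} ha hb i hi x hx hc => by
        have e : afn (a * b) x * x⁻¹ = afn a (afn b x) * (afn b x)⁻¹ * (afn b x * x⁻¹) := by
          rw [afn_mul _ _ hx]; group
        rw [e]
        exact mul_mem (ha i hi _ (afn_mem b hx) ((mul_mem_cancel_right (inv_mem hc)).1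
          (hmono i hi (hb i hi x hx hc)))) (hb i hi x hx hc) }
  let N : Subgroup (MulAut Q) := ⟨M, fun {a} ha => (Submonoid.powers_le (P := M)).2 ha
    (mem_powers_iff_mem_zpowers.2 (inv_mem (Subgroup.mem_zpowers a)))⟩
  have hN : IsPGroup 3 N := isPGroup_of_coprime_eq_one fun β hβ c => by
    have : ∀ i ≤ n, ∀ x ∈ Q, x ∈ C i → afn β x = x := fun i => by
      induction i with
      | zero => intro _ x _ k; rw [h0] at k; rw [Subgroup.mem_bot.1 k, (homOn_afn β).map_one]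
      | succ i ih => exact fun hi x hx k => fix_of_step (pG.to_le le_top) c (ih (by omega)) hx (hβ i hi x hx k)
    exact aut_ext fun x hx => (this n le_rfl x hx (hn hx)).trans (afn_one x).symm
  exact (hs.eq_of_le hle (hN.to_inf_left (K := F.autGroup Q)) (fun s k => Subgroup.mem_inf.2 ⟨hS s k, hle k⟩)
    inf_le_right).le (Subgroup.mem_inf.2 ⟨h, hα⟩)

end Cfsg.Agent.T3F
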