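import Cfsg.Agent.T3F.Bas
import Cfsg.Agent.T3F.Fin2

/-! The class of the centre avoids `J \ Z2` (if it avoids `Z3 \ Z2`) and the type `R3`. -/

set_option autoImplicit false
set_option maxRecDepth 100000
set_option Elab.async false

namespace Cfsg.Agent.T3F

open Cfsg.Agent.Comp Cfsg.Agent.X32 Cfsg.Agent.Fus Cfsg.FusionSystem
open scoped commutatorElement

variable {F : FS}

theorem c2_self (x : G) : x ∈ Cz x := mem_Cz.2 rfl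

theorem c2_ty {l : List ℕ} {r : ℕ} (hr : r ∈ l) : Ty l (el r) := ⟨r, hr, 1, Or.inl (by simp)⟩

/-- three independent central elements of `Cz x` in the class: one of them is sent outside `Z2` -/
theorem c2_out (hF : F.IsSaturated 3) {x a b : G} (h : Cl F x) (ha : ∀ p ∈ Cz x, p * a = a * p)
    (hb : ∀ p ∈ Cz x, p * b = b * p) (ca : Cj (x * a) x) (cb : Cj (x * b) x) (hi : Ind x (x * a) (x * b)) :
    ∃ f, IsMap F (Cz x) f ∧ Zg (f x) ∧ ∃ c ∈ Cz x, (∀ p ∈ Cz x, p * c = c * p) ∧ Cl F (f c) ∧ f c ∉ Z2 := by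
  obtain ⟨f, hf, hz⟩ := h.ext hF
  have k : ∀ a, (∀ p ∈ Cz x, p * a = a * p) → x * a ∈ Cz x ∧ ∀ p ∈ Cz x, p * (x * a) = x * a * p :=
    fun a ha => ⟨mul_mem (c2_self x) (mem_Cz.2 (ha x (c2_self x)).symm), fun p hp => by
      rw [← mul_assoc, mem_Cz.1 hp, mul_assoc, ha p hp, mul_assoc]⟩
  refine ⟨f, hf, hz, ?_⟩
  rcases nz3 hf (c2_self x) (k a ha).1 (k b hb).1 hi with e | e | e
  · exact ⟨x, c2_self x, fun p hp => mem_Cz.1 hp, h.map hf (c2_self x), e⟩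
  · exact ⟨_, (k a ha).1, (k a ha).2, ((Cl.cj ca).2 h).map hf (k a ha).1, e⟩
  · exact ⟨_, (k b hb).1, (k b hb).2, ((Cl.cj cb).2 h).map hf (k b hb).1, e⟩

/-- pull back `z1 = ⁅p, q⁆` -/
theorem c2_pull {P : Subgroup G} {g : G → G} (hg : IsMap F P g) {r : ℕ} (hr : r ∈ R2 ++ R3)
    (hi : img P g = Cz (el r)) {x : G} (hx : x ∈ P) (hz : Zg (g x)) :
    ∃ p ∈ P, ∃ q ∈ P, ⁅p, q⁆ = x ∨ ⁅p, q⁆ = x⁻¹ := by
  obtain ⟨p', hp', q', hq', e⟩ := R23_comm r hr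
  rw [← hi] at hp' hq'
  obtain ⟨p, hp, rfl⟩ := hg.mem_img.1 hp'
  obtain ⟨q, hq, rfl⟩ := hg.mem_img.1 hq'
  rw [← hg.homOn.map_commutator hp hq] at e
  have m : ⁅p, q⁆ ∈ P := mul_mem (mul_mem (mul_mem hp hq) (inv_mem hp)) (inv_mem hq)
  refine ⟨p, hp, q, hq, hz.imp (fun z => hg.inj m hx (e.trans z.symm)) fun z => ?_⟩
  exact hg.inj m (inv_mem hx) (by rw [hg.map_inv hx, z, inv_inv, e])

theorem c2_fin : e2 ∈ Cz j5 ∧ e2 ^ 3 = z2⁻¹ ∧ z2 ∈ Cz j5 ∧ z2 ∈ Z2 ∧ z2 ∉ Z1 ∧ j5 ∉ Z2 ∧ j5 ∈ J ∧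
    e2 ∈ E1 ∧ z1 ∈ Z1 := BD.of (by decide +kernel)

/-- `x = el r`, `f` from `Cl.ext`.  `x, x z1, x z2` are in the class (`R2_cj`) and central in `P = Cz x`
(`Cz_R2`, `Z2_comm`); `nz3` gives `u = f a ∉ Z2` in the class with `2187 ≤ card (Cz u)`, so `Ty R2 u` (`cls`; `R1` is
excluded by `h1`), and `land` applies. -/
theorem land2 (hF : F.IsSaturated 3) (h1 : ∀ w, Cl F w → w ∈ Z3 → w ∈ Z2) {r : ℕ} (hr : r ∈ R2) (h : Cl F (el r)) :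
    ∃ g, ∃ r' ∈ R2, Cl F (el r') ∧ IsMap F (Cz (el r)) g ∧ img (Cz (el r)) g = Cz (el r') ∧ Zg (g (el r)) := by
  obtain ⟨c1, c2, hi⟩ := R2_cj r hr
  obtain ⟨f, hf, hz, c, hc, cc, cl, nz⟩ := c2_out hF h (fun p _ => Z1_comm c2_fin.2.2.2.2.2.2.2.2 p)
    (fun p hp => Z2_comm c2_fin.2.2.2.1 (Cz_R2 r hr hp)) c1 c2 hi
  have le := card_le_Cz hf hc cc
  have c0 := cz2 (c2_ty hr)
  rcases cls cl.pow with t | t | t | t | t | t | t
  · exact absurd t nz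
  · exact absurd (h1 _ cl t.mem_Z3.1) nz
  · obtain ⟨r', hr', cj⟩ := t
    obtain ⟨g, hg, ig, e, -⟩ := land hf hc cc cj (by rw [c0, cz2 (c2_ty hr')])
    exact ⟨g, r', hr', (Cl.cj cj).1 cl, hg, ig, (e _ (c2_self _) hz.mem).symm ▸ hz⟩
  · rw [c0, cz3 t] at le; omega
  · rw [c0, cz4 t] at le; omega
  · rw [c0, cz5 t] at le; omega
  · rw [c0, cz6 t] at le; omega

/-- `z1 = ⁅p, q⁆` in `Cz (el r')` (`R23_comm`); pull back: `(el r)^{±1} = ⁅p₀, q₀⁆`; `R2_not_comm` -/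
theorem only_j5 (hF : F.IsSaturated 3) (h1 : ∀ w, Cl F w → w ∈ Z3 → w ∈ Z2) {r : ℕ} (hr : r ∈ R2)
    (h : Cl F (el r)) : r = 81 := by
  obtain ⟨g, r', hr', -, hg, ig, hz⟩ := land2 hF h1 hr h
  obtain ⟨p, hp, q, hq, e⟩ := c2_pull hg (List.mem_append_left _ hr') ig (c2_self _) hz
  by_contra n
  have m : r ∈ [27, 90, 99] := by
    simp only [R2, List.mem_cons, List.not_mem_nil, or_false] at hr ⊢
    omega
  exact e.elim (R2_not_comm r m p hp q hq).1 (R2_not_comm r m p hp q hq).2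

/-- By `cls`, `Ty.not_J3` …, `only_j5`: every `w ∈ J \ Z2` in the class has `Cj w j5`.  `land2` gives `g` on `Cz j5` onto
itself with `Zg (g j5)`.  `e2 ∈ Cz j5`, `e2^3 = z2⁻¹`, so `g z2 = z2^{±1}` (`j5_cube`); `g (j5 z2) ∈ Z2 \ Z1` is in the
class, so `Cl F z2`; take `χ` (`exists_chi`).  `χ j5 ∈ J \ Z2` (`mapJ`; `mapZ2` and cardinality or the inverse of `χ`)
is in the class: `s (χ j5)^{±1} s⁻¹ = j5`; then `s (χ e2) s⁻¹ ∈ Cz j5` has cube `(χ z2)⁻¹ ∈ Z1 \ 1`, against `j5_cube`. -/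
theorem noJ (hF : F.IsSaturated 3) (h1 : ∀ w, Cl F w → w ∈ Z3 → w ∈ Z2) : ∀ w, Cl F w → w ∈ J → w ∈ Z2 := by
  obtain ⟨f1, f2, f3, f4, f5, f6, f7, f8, -⟩ := c2_fin
  have JE : J ≤ E1 := L_mono (by norm_num)
  have Z12 : Z1 ≤ Z2 := L_mono (by norm_num)
  have cjj : ∀ w, Cl F w → w ∈ J → w ∉ Z2 → Cj w j5 := fun w cl hw nz => by
    rcases cls cl.pow with t | t | t | t | t | t | t
    · exact absurd t nz
    · exact absurd (h1 _ cl t.mem_Z3.1) nz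
    · obtain ⟨r, hr, cj⟩ := t
      obtain rfl := only_j5 hF h1 hr ((Cl.cj cj).1 cl)
      exact cj
    · exact absurd hw t.not_J3
    · exact absurd hw t.not_J4
    · exact absurd hw t.not_J5
    · exact absurd (JE hw) t.not_E1
  intro w cl hw
  by_contra nz
  have c5 : Cl F j5 := (Cl.cj (cjj w cl hw nz)).1 cl
  have m81 : 81 ∈ R2 := by simp [R2]
  obtain ⟨g, r', hr', cl', hg, ig, hz⟩ := land2 hF h1 m81 c5
  obtain rfl := only_j5 hF h1 hr' cl'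
  change IsMap F (Cz j5) g at hg
  change img (Cz j5) g = Cz j5 at ig
  change Zg (g j5) at hz
  have gc : g e2 ^ 3 = (g z2)⁻¹ := by rw [← hg.map_pow f1, f2, hg.map_inv f3]
  have gz : g z2 ∈ Z2 ∧ g z2 ∉ Z1 := by
    rcases j5_cube (ig ▸ mem_img_of_mem g f1 : g e2 ∈ Cz j5) with e | e | e <;> rw [gc] at e
    · exact absurd ((hg.eq_one_iff f3).1 (inv_eq_one.1 e) ▸ one_mem _) f5
    · rw [inv_eq_iff_eq_inv.1 e]
      exact ⟨inv_mem f4, fun c => f5 (inv_mem_iff.1 c)⟩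
    · rw [inv_inj.1 e]
      exact ⟨f4, f5⟩
  have m2 : j5 * z2 ∈ Cz j5 := mul_mem (c2_self _) f3
  have cz : Cl F z2 := (((Cl.cj (R2_cj 81 m81).2.1).2 c5).map hg m2).to_z2
    (by rw [show el 81 = j5 from rfl, hg.map_mul (c2_self _) f3]; exact mul_mem (Z12 hz.mem) gz.1)
    (by
      rw [show el 81 = j5 from rfl, hg.map_mul (c2_self _) f3]
      exact fun c => gz.2 ((Subgroup.mul_mem_cancel_left _ hz.mem).1 c))
  obtain ⟨χ, hχ, iχ, zχ, -⟩ := exists_chi hF cz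
  obtain ⟨χ', hχ', iχ', e', -⟩ := hχ.exists_inv' iχ
  have n2 : χ j5 ∉ Z2 := fun c => f6 (e' j5 (JE f7) ▸ mapZ2 hχ'.homOn iχ' c)
  obtain ⟨s, hs⟩ := cjj _ (c5.map hχ (JE f7)) (mapJ hχ.homOn iχ f7) n2
  have cm : χ e2 * χ j5 = χ j5 * χ e2 := by
    rw [← hχ.map_mul f8 (JE f7), mem_Cz.1 f1, hχ.map_mul (JE f7) f8]
  have ma : s * χ e2 * s⁻¹ ∈ Cz j5 := mem_Cz.2 (by
    have c : Commute (χ e2) (χ j5) := cm
    rcases hs with e | e <;> rw [← e]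
    · exact (c.map (MulAut.conj s)).eq
    · exact (c.inv_right.map (MulAut.conj s)).eq)
  have z2E : z2 ∈ E1 := L_mono (by norm_num) f4
  have cu : (s * χ e2 * s⁻¹) ^ 3 = (χ z2)⁻¹ := by
    rw [conj_pow, ← hχ.map_pow f8, f2, hχ.map_inv z2E, Z1_comm (inv_mem zχ.mem) s, mul_inv_cancel_right]
  rcases j5_cube ma with e | e | e <;> rw [cu] at e
  · exact zχ.ne_one (inv_eq_one.1 e)
  · exact f5 (e ▸ inv_mem zχ.mem)
  · exact f5 (inv_inj.1 e ▸ zχ.mem)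

/-- as `land2`, `only_j5` with `x, x z1, x z3` (`R3_cj`, `Cz_R3`): `(el r)^{±1} = ⁅p₀, q₀⁆ ∈ Z4` (`comm_Y6`), but
`el r ∉ J` -/
theorem no3 (hF : F.IsSaturated 3) (hJ : ∀ w, Cl F w → w ∈ J → w ∈ Z2) : ∀ w, Cl F w → ¬ Ty R3 w := by
  intro w cw tw
  obtain ⟨r, hr, h⟩ := cw.ty tw
  obtain ⟨c1, c2, hi⟩ := R3_cj r hr
  obtain ⟨f, hf, hz, c, hc, cc, cl, nz⟩ := c2_out hF h (fun p _ => Z1_comm c2_fin.2.2.2.2.2.2.2.2 p)
    (fun p hp => mem_Cz.1 (Cz_R3 r hr hp)) c1 c2 hi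
  have le := card_le_Cz hf hc cc
  have c0 := cz3 (c2_ty hr)
  rcases cls cl.pow with t | t | t | t | t | t | t
  · exact absurd t nz
  · exact absurd (hJ _ cl (L_mono (by norm_num) t.mem_Z3.1)) nz
  · exact absurd (hJ _ cl t.mem_J.1) nz
  · obtain ⟨r', hr', cj⟩ := t
    obtain ⟨g, hg, ig, e, -⟩ := land hf hc cc cj (by rw [c0, cz3 (c2_ty hr')])
    obtain ⟨p, hp, q, hq, e⟩ := c2_pull hg (List.mem_append_right _ hr') ig (c2_self _)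
      ((e _ (c2_self _) hz.mem).symm ▸ hz)
    have m : ⁅p, q⁆ ∈ J := L_mono (by norm_num) (comm_Y6 (Cz_R3 r hr hp) (Cz_R3 r hr hq))
    refine (c2_ty hr).not_J3 ?_
    rcases e with e | e <;> rw [e] at m
    exacts [m, inv_mem_iff.1 m]
  · rw [c0, cz4 t] at le; omega
  · rw [c0, cz5 t] at le; omega
  · rw [c0, cz6 t] at le; omega

end Cfsg.Agent.T3F
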