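import Cfsg.Agent.T3F.Bas
import Cfsg.Agent.T3F.Fin2

/-! The case that the class of the centre meets `Z3 \ Z2`. -/

set_option autoImplicit false
set_option maxRecDepth 100000
set_option Elab.async false

namespace Cfsg.Agent.T3F

open Cfsg.Agent.Comp Cfsg.Agent.X32 Cfsg.Agent.Fus Cfsg.FusionSystem
open scoped commutatorElement

variable {F : FS}

theorem ca_chk : (⁅e0, j5⁆ = z1 ∧ ⁅e1, j5⁆ = z2 ∧ ⁅j5, y⁆ = z4 * z3 ^ 2 ∧ ⁅z3, e2⁆ = z1) ∧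
    (e0 ∈ C4 ∧ j5 ∈ C4 ∧ e1 ∈ Cz z3 ∧ y ∈ Cz z3 ∧ z1 ∈ W0 ∧ z3 ∈ W0 ∧ z2 ∉ W0) ∧
    (z3 ∈ Z3 ∧ z3 ∉ Z1 ∧ z2 ∈ Z2 ∧ z1 ∈ Z1 ∧ z1 ≠ 1 ∧ e2 ∈ Z6 ∧ e3 ∈ E1 ∧ z2 ^ 3 = 1) ∧
    ∀ g ∈ pcs, g ∈ L 3 → g = z3 ∨ g = z2 ∨ g = z1 := BD.of (by decide +kernel)

theorem ca_chk2 : (∀ u ∈ Z3, u ∉ Z2 → u⁻¹ * (e3 * u * e3⁻¹) ∈ Z2 ∧ u⁻¹ * (e3 * u * e3⁻¹) ∉ Z1) ∧
    ∀ n ∈ Z3, n ∈ W0 → n ∉ Z1 → ∃ c ∈ [e3, e3⁻¹], c * (z2 * n) * c⁻¹ = z2⁻¹ * n ∧ (z2 * n)⁻¹ * n * z2 ∈ Z1 :=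
  BD.of (by decide +kernel)

theorem ca_C3 : C3 ≤ Cz z3 := fun _ h => mem_Cz.2 (C3_comm h ca_chk.2.2.1.1)

theorem ca_Z3 : Z3 ≤ E2 := (L_mono (by norm_num)).trans Z6_le_E2

/-- a map sending `z1` into the centre preserves the centre -/
theorem ca_Z1 {P : Subgroup G} {f : G → G} (hf : IsMap F P f) (h1 : z1 ∈ P) (h : f z1 ∈ Z1) {x : G} (hx : x ∈ Z1) :
    f x ∈ Z1 := by
  rcases mem_Z1.1 hx with rfl | rfl | rfl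
  · rw [hf.map_one]; exact one_mem _
  · exact h
  · rw [hf.map_inv h1]; exact inv_mem h

theorem ca_two {P : Subgroup G} {f : G → G} (hf : IsMap F P f) (h1 : z1 ∈ P) (h3 : z3 ∈ P) (h : f z1 ∈ Z1) :
    f z3 ∉ Z1 := fun k => by
  have le : Z1 ≤ P := fun x hx => by
    rcases mem_Z1.1 hx with rfl | rfl | rfl
    exacts [one_mem _, h1, inv_mem h1]
  exact ca_chk.2.2.1.2.1 (hf.mem_of_mem_img le h3
    (((hf.mono le).img_eq_self fun x => ca_Z1 hf h1 h).ge k))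

theorem ca_big {x : G} (h : x ^ 3 = 1) (hc : 6561 ≤ Nat.card (Cz x)) (h2 : x ∉ Z2) : Ty R1 x := by
  rcases cls h with k | k | k | k | k | k | k
  · exact absurd k h2
  · exact k
  · rw [cz2 k] at hc; omega
  · rw [cz3 k] at hc; omega
  · rw [cz4 k] at hc; omega
  · rw [cz5 k] at hc; omega
  · rw [cz6 k] at hc; omega

theorem ca_W0 {P : Subgroup G} {f : G → G} (hf : IsMap F P f) (hP : W0 ≤ P) (h1 : f z1 ∈ Z2) (h3 : f z3 ∈ Z2) :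
    img W0 f = Z2 := by
  have a1 := hP ca_chk.2.1.2.2.2.2.1
  have a3 := hP ca_chk.2.1.2.2.2.2.2.1
  refine (hf.mono hP).img_eq_of_le (fun w hw => ?_) (by rw [card_W0, card_L (by norm_num)]; norm_num)
  obtain ⟨i, -, j, -, rfl⟩ := mem_W0.1 hw
  rw [hf.map_mul (pow_mem a3 i) (pow_mem a1 j), hf.map_pow a3, hf.map_pow a1]
  exact mul_mem (pow_mem h3 i) (pow_mem h1 j)

/-- Let `g` be the inverse of `f`, `Y = Cz z3`.  `z1 = ⁅e0, j5⁆` with `e0, j5 ∈ C4 ≤ Y` commuting with all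
commutators of `Y` (`comm_Y6`, `C4_comm`).  So `a = g e0`, `b = g j5` commute with all commutators of `Y`, among
them `⁅e1, j5⁆ = z2` and `⁅j5, y⁆ = z4 z3²`, and with `z3`; hence `a, b ∈ C4` (`mem_C3`), `g z1 = ⁅a, b⁆ ∈ Z1`
(`comm_C4`), while `g (z1^{±1}) = z3 ∉ Z1`. -/
theorem Y6_inv {f : G → G} (hf : IsMap F (Cz z3) f) (hi : img (Cz z3) f = Cz z3) : ¬ Zg (f z3) := by
  intro hz
  obtain ⟨⟨c1, c2, c3, -⟩, ⟨m0, m5, m1, my, mz, -⟩, ⟨-, n3, -⟩, -⟩ := ca_chk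
  obtain ⟨g, hg, -, e1', e2'⟩ := hf.exists_inv' hi
  have fm : ∀ p ∈ Cz z3, f p ∈ Cz z3 := img_le_iff.1 hi.le
  have key : ∀ a ∈ C4, g a ∈ C4 := fun a ha => by
    have aY := ca_C3 ha.1
    have k : ∀ p ∈ Cz z3, ∀ q ∈ Cz z3, g a ∈ Cz ⁅p, q⁆ := fun p hp q hq => by
      have m : ⁅f p, f q⁆ ∈ Cz z3 := ca_C3 (L_mono (by norm_num) (comm_Y6 (fm p hp) (fm q hq)))
      rw [mem_Cz, ← e1' p hp, ← e1' q hq, ← hg.homOn.map_commutator (fm p hp) (fm q hq), ← hg.map_mul aY m,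
        ← hg.map_mul m aY, C4_comm ha (comm_Y6 (fm p hp) (fm q hq))]
    have k3 := (e2' a aY).1
    have k2 := k _ m1 _ (ca_C3 m5.1)
    have k4 := k _ (ca_C3 m5.1) _ my
    rw [c2] at k2
    rw [c3, mem_Cz] at k4
    refine ⟨mem_C3 k2 k3, mem_Cz.2 (mul_right_cancel (b := z3 ^ 2) ?_)⟩
    rw [mul_assoc, k4, mul_assoc, mul_assoc, ((show Commute (g a) z3 from mem_Cz.1 k3).pow_right 2).eq]
  have h1 : g z1 ∈ Z1 := by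
    rw [← c1, hg.homOn.map_commutator (ca_C3 m0.1) (ca_C3 m5.1)]
    exact comm_C4 (key _ m0) (key _ m5)
  exact n3 (e1' z3 (mem_Cz.2 rfl) ▸ ca_Z1 hg (ca_C3 (L_mono (by norm_num) mz.1)) h1 hz.mem)

/-- `Cl F z3` (`Cj_Z3`); `f` from `Cl.ext`; `x' = f z1` is in the class, not in `Z1` (injectivity),
`6561 ≤ card (Cz x')` (`card_le_Cz`, `cz1`).  If `x' ∉ Z2` then `Ty R1 x'` (`cls`, `cz2 …`) and `land` contradicts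
`Y6_inv`.  So `x' ∈ Z2 \ Z1`, `Cl F z2`, and `img W0 f = Z2` (`mem_W0`, `card_W0`).  `Z2` is fully normalised, so
`sat_exists_map_normalizer` gives `ψ` on `normalizerIn ⊤ W0 = E2` with `img W0 ψ = Z2`.  `ψ z1` centralises `ψ E2` and
lies in `Z2`; if `ψ z1 ∉ Z1` then `ψ E2 ≤ E1` (`Cz_Z2`) centralises `ψ z3 ∈ Z2`, against `⁅z3, e2⁆ = z1`.  So
`Zg (ψ z1)`, `ψ z3 ∉ Z1`.  `u = ψ z2 ∉ Z2 = ψ W0` has order 3 and centralises `ψ Z6` (`Z6_le_E2`, order 6561), so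
`Ty R1 u`, `u ∈ Z3`; `⁅u, ψ a⁆ = ψ ⁅z2, a⁆ ∈ Z1` (`comm_Z2`), so `ψ a ∈ E2` (`mem_E2_of`). -/
theorem caseA (hF : F.IsSaturated 3) {w : G} (h : Cl F w) (h1 : w ∈ Z3) (h2 : w ∉ Z2) :
    Cl F z2 ∧ ∃ ψ, CaseA F ψ := by
  obtain ⟨⟨-, -, -, c4⟩, ⟨-, -, -, -, w1, w3, w2⟩, ⟨m3, -, m2, m1, n1, me, -, p2⟩, -⟩ := ca_chk
  obtain ⟨f, hf, hz⟩ := ((Cl.cj (Cj_Z3 h1 h2)).1 h).ext hF
  have hW : W0 ≤ Cz z3 := fun x hx => ca_C3 (L_mono (by norm_num) hx.1)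
  have cl := (Cl.of_zg (F := F) (.inl rfl)).map hf (hW w1)
  have n1' : f z1 ∉ Z1 := fun k => ca_two hf (hW w1) (hW w3) k hz.mem
  have cen : ∀ p ∈ Cz z3, p * z1 = z1 * p := fun p _ => Z1_comm m1 p
  have m2' : f z1 ∈ Z2 := by
    by_contra c
    obtain ⟨r, hr, k⟩ := ca_big cl.pow ((cz1 (x := z3) ⟨9, List.mem_singleton_self _, 1, .inl (by simp [z3])⟩).ge.trans
      (card_le_Cz hf (hW w1) cen)) c
    obtain rfl : r = 9 := List.mem_singleton.1 hr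
    obtain ⟨g, hg, hi, e, -⟩ := land hf (hW w1) cen (r := z3) k le_rfl
    exact Y6_inv hg hi (by rwa [e _ (hW w3) hz.mem])
  refine ⟨cl.to_z2 m2' n1', ?_⟩
  obtain ⟨ψ, hψ, hi⟩ := sat_exists_map_normalizer pG hF (P := W0) (Q := Z2)
    (fullyNormalized_of_le_normalizer F le_top (Subgroup.normalizer_eq_top _).ge)
    (ca_W0 hf hW m2' (L_mono (by norm_num) hz.mem) ▸ (hf.mono hW).isConj)
  rw [show normalizerIn ⊤ W0 = E2 from top_inf_eq _] at hψ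
  have a1 := ca_Z3 w1.1
  have a3 := ca_Z3 m3
  have a2 : z2 ∈ E2 := ca_Z3 (L_mono (by norm_num) m2)
  have ae := Z6_le_E2 me
  have b3 : ψ z3 ∈ Z2 := img_le_iff.1 hi.le _ w3
  have b1 : ψ z1 ∈ Z1 := by
    by_contra c
    have k : ψ e2 ∈ E1 := by
      rw [← Cz_Z2 (img_le_iff.1 hi.le _ w1) c, mem_Cz, ← hψ.map_mul ae a1, ← hψ.map_mul a1 ae, Z1_comm m1]
    refine n1 ((hψ.eq_one_iff a1).1 ?_)
    rw [← c4, hψ.homOn.map_commutator a3 ae, commutatorElement_eq_one_iff_mul_comm, Z2_comm b3 k]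
  have b2 : ψ z2 ∉ Z2 := fun k => w2 (hψ.mem_of_mem_img (Q := W0) (fun x hx => ca_Z3 hx.1) a2 (hi.ge k))
  have b2' : ψ z2 ∈ Z3 := (ca_big (by rw [← hψ.map_pow a2, p2, hψ.map_one])
    ((card_L (k := 8) (by norm_num)).ge.trans (card_le_Cz (hψ.mono Z6_le_E2) (L_mono (by norm_num) m2)
      fun p hp => Z2_comm m2 (L_mono (by norm_num) hp))) b2).mem_Z3.1
  refine ⟨ψ, hψ, fun a ha => mem_E2_of b2' b2 ?_, (mem_Z1.1 b1).resolve_left (mt (hψ.eq_one_iff a1).1 n1), b2', b2, b3,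
    ca_two hψ a1 a3 b1⟩
  rw [← hψ.homOn.map_commutator a2 ha]
  exact ca_Z1 hψ a1 b1 (comm_Z2 m2 a)

theorem CaseA.mapZ3 {ψ : G → G} (h : CaseA F ψ) {x : G} (hx : x ∈ Z3) : ψ x ∈ Z3 := by
  refine L_ind (k := 3) (p := fun x => ψ x ∈ Z3) (by rw [h.map.map_one]; exact one_mem _)
    (fun g hg hk x hx ih => ?_) x hx
  rw [h.map.map_mul (ca_Z3 hk) (ca_Z3 hx)]
  refine mul_mem ?_ ih
  rcases ca_chk.2.2.2 g hg hk with rfl | rfl | rfl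
  exacts [L_mono (by norm_num) h.hz3, h.hz2, L_mono (by norm_num) h.hz1.mem]

/-- On `Z3`: `t = c_{e3}` (`z3 ↦ z3 z2²`, fixes `Z2`), `t' = ψ⁻¹ t ψ` fixes `z1, z3` and `t' z2 = z2 z3^{±1} z1^k`
(as `ψ z2 ∈ Z3 \ Z2`, `t (ψ z2) = ψ z2 * z2^{±1}`, `ψ⁻¹ z2 ∈ W0 \ Z1`).  For a suitable `a ∈ {1,2}` the map
`(t^a t' t^a)²` fixes `z1` and sends `z2` into `z2⁻¹ Z1` (it is `-1` on `Z3/Z1`); restrict it to `Z2`. -/
theorem CaseA.kap {ψ : G → G} (h : CaseA F ψ) : ∃ v, M2 F z1 v ∧ v * z2 ∈ Z1 := by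
  obtain ⟨-, ⟨-, -, -, -, w1, -⟩, ⟨-, -, m2, m1, -, -, me, -⟩, -⟩ := ca_chk
  have m2' : z2 ∈ Z3 := L_mono (by norm_num) m2
  have hψ := h.map.mono ca_Z3
  obtain ⟨φ, hφ, -, e1', e2'⟩ := hψ.exists_inv' (hψ.img_eq_self fun _ => h.mapZ3)
  have hi := ca_W0 hψ (fun x hx => hx.1) (L_mono (by norm_num) h.hz1.mem) h.hz3
  have cj : ∀ (c : G) {g : G → G}, IsMap F Z3 g → (∀ x ∈ Z3, g x ∈ Z3) →
      IsMap F Z3 (fun x => c * g x * c⁻¹) ∧ ∀ x ∈ Z3, c * g x * c⁻¹ ∈ Z3 := fun c g hg hm =>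
    ⟨(isMap_conj F le_top (Subgroup.mem_top c)).comp' hg hm, fun x hx => (normal_L 3).conj_mem _ (hm x hx) c⟩
  obtain ⟨t, ht, tm, tw, n, hn, hn', t2⟩ : ∃ t, IsMap F Z3 t ∧ (∀ x ∈ Z3, t x ∈ Z3) ∧ (∀ x ∈ W0, t x = x) ∧
      ∃ n ∈ W0, n ∉ Z1 ∧ t z2 = z2 * n := by
    obtain ⟨k1, k2⟩ := cj e3 hψ fun _ => h.mapZ3
    obtain ⟨k3, k4⟩ := ca_chk2.1 _ h.hz2 h.hz2'
    obtain ⟨n, hn, e⟩ := (hψ.mono (Q := W0) fun x hx => hx.1).mem_img.1 (hi.ge k3)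
    refine ⟨_, hφ.comp' k1 k2, fun x hx => (e2' _ (k2 x hx)).1, fun x hx => ?_, n, hn,
      fun c => k4 (e ▸ ca_Z1 hψ w1.1 h.hz1.mem c), ?_⟩
    · rw [Z2_comm (img_le_iff.1 hi.le x hx) me, mul_inv_cancel_right, e1' x hx.1]
    · rw [← e1' _ (mul_mem m2' hn.1), hψ.map_mul m2' hn.1, e, mul_inv_cancel_left]
  obtain ⟨c, -, c1, c2⟩ := ca_chk2.2 n hn.1 hn hn'
  obtain ⟨k1, k2⟩ := cj c ht tm
  refine ⟨_, ⟨_, (ht.comp' k1 k2).mono (L_mono (by norm_num)), ?_, rfl⟩, ?_⟩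
  · rw [tw _ w1, Z1_comm m1 c, mul_inv_cancel_right, tw _ w1]
  · rwa [t2, c1, ht.map_mul (inv_mem m2') hn.1, ht.map_inv m2', t2, tw n hn]

end Cfsg.Agent.T3F
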