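import Cfsg.Agent.T3F.Bas
import Cfsg.Agent.T3F.Fin2

/-! The case of `V`: the conjugates of `A = Z2` in `V` form a TI set. -/

set_option autoImplicit false
set_option maxRecDepth 100000
set_option Elab.async false

namespace Cfsg.Agent.T3F

open Cfsg.Agent.Comp Cfsg.Agent.X32 Cfsg.Agent.Fus Cfsg.FusionSystem
open scoped commutatorElement

variable {F : FS} {g : G → G}

theorem cb1_gen : ∀ u ∈ Z2, ∀ v ∈ Z2, u = 1 ∨ v = 1 ∨ v = u ∨ v = u * u ∨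
    ∀ w ∈ Z2, ∃ i ∈ [0, 1, 2], ∃ k ∈ [0, 1, 2], w = u ^ i * v ^ k := BD.of (by decide +kernel)

theorem cb1_z : z1 ≠ 1 ∧ z2 ≠ 1 ∧ z1 ∈ Z2 ∧ z2 ∈ Z2 :=
  ⟨fun e => absurd (congrArg (·.v) e) (by decide +kernel), fun e => absurd (congrArg (·.v) e) (by decide +kernel),
    el_mem_L (by norm_num), el_mem_L (by norm_num)⟩

theorem cb1_Z2J : Z2 ≤ J := L_mono (by norm_num)
theorem cb1_JE : J ≤ E1 := L_mono (by norm_num)
theorem cb1_Z12 : Z1 ≤ Z2 := L_mono (by norm_num)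

theorem cb1_inv {h : G → G} (hh : IsMap F V h) (hm : ∀ x ∈ V, h x ∈ V) :
    ∃ h', IsMap F V h' ∧ (∀ x ∈ V, h' (h x) = x) ∧ ∀ x ∈ V, h' x ∈ V ∧ h (h' x) = x := by
  obtain ⟨h', k1, -, k2, k3⟩ := hh.exists_inv' (hh.img_eq_self hm)
  exact ⟨h', k1, k2, k3⟩

/-- the chain -/
noncomputable def cb1_ch (u : G) (A : Subgroup G) : ℕ → Subgroup G
  | 0 => ⊥
  | 1 => Subgroup.zpowers u
  | 2 => Z2
  | 3 => Z2 ⊔ A
  | _ => V

/-- Suppose `c ∉ J`.  `V_orb`: `j c j⁻¹ = c a`, `j ∈ J`.  `τ = h c_j h⁻¹ ∈ Aut_F(V)` (`J_norm_V`) fixes `A' = img Z2 h`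
pointwise, `τ v v⁻¹ ∈ A'` for `v ∈ V` (`comm_J`, `V_le`), and `τ (h c) = h c * h a`.  `Z2` is generated by `h a` and `h c`
(`h c ∉ zpowers (h a)` as `c ∉ J`).  Chain `⊥ ≤ zpowers (h a) ≤ Z2 ≤ Z2 ⊔ A' ≤ V` (`V` is abelian): `τ` and every
`c_s`, `s ∈ N(V)` (`norm_V`, `Z2_comm`) act trivially on the factors; `mem_aut_of_chain` makes `τ = c_s` with `s ∈ E1`,
which fixes `h c ∈ Z2`: `h a = 1`, contradiction. -/
theorem ti (hF : F.IsSaturated 3) (hV : F.IsFullyNormalized V) {h : G → G} (hh : IsMap F V h)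
    (hm : ∀ x ∈ V, h x ∈ V) {a : G} (ha : a ∈ Z2) (ha1 : a ≠ 1) (ha' : h a ∈ Z2) {c : G} (hc : c ∈ V)
    (hc' : h c ∈ Z2) : c ∈ J := by
  by_contra cJ
  obtain ⟨j, hj, ej⟩ := V_orb hc cJ ha
  obtain ⟨h', k1, k2, k3⟩ := cb1_inv hh hm
  have aV := Z2_le_V ha
  have t1 : IsMap F V fun v => h (j * h' v * j⁻¹) :=
    hh.comp' ((isMap_conj F (le_top : V ≤ ⊤) (Subgroup.mem_top j)).comp' k1 fun x hx => (k3 x hx).1)
      fun x hx => J_norm_V hj (k3 x hx).1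
  obtain ⟨α, hα, eα⟩ := t1.exists_aut (t1.img_eq_self fun x hx => hm _ (J_norm_V hj (k3 x hx).1))
  have AV : img Z2 h ≤ V := img_le_iff.2 fun x hx => hm x (Z2_le_V hx)
  have d : HomOn V fun x => afn α x * x⁻¹ := fun x hx y hy => by
    show afn α (x * y) * (x * y)⁻¹ = afn α x * x⁻¹ * (afn α y * y⁻¹)
    rw [(homOn_afn α).map_mul hx hy, mul_inv_rev, mul_assoc, mul_assoc, ← mul_assoc (afn α y),
      V_comm (V.inv_mem hx) (V.mul_mem (afn_mem α hy) (V.inv_mem hy))]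
  have f1 : ∀ x ∈ img Z2 h, afn α x * x⁻¹ = 1 := fun x hx => by
    obtain ⟨w, hw, rfl⟩ := (hh.mono Z2_le_V).mem_img.1 hx
    rw [eα _ (AV hx), k2 w (Z2_le_V hw), Z2_comm hw (cb1_JE hj), mul_inv_cancel_right, mul_inv_cancel]
  have f2 : afn α (h c) = h c * h a := by rw [eα _ (hm c hc), k2 c hc, ej, hh.map_mul hc aV]
  have f3 : ∀ x ∈ V, afn α x * x⁻¹ ∈ img Z2 h := fun x hx => by
    have := mem_img_of_mem h (comm_J hj (V_le (k3 x hx).1))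
    rwa [commutatorElement_def, hh.map_mul (J_norm_V hj (k3 x hx).1) (V.inv_mem (k3 x hx).1),
      hh.map_inv (k3 x hx).1, (k3 x hx).2, ← eα x hx] at this
  have f4 : ∀ x ∈ Z2, afn α x * x⁻¹ ∈ Subgroup.zpowers (h a) := fun x hx => by
    rcases cb1_gen _ ha' _ hc' with e | e | e | e | e
    · exact absurd ((hh.eq_one_iff aV).1 e) ha1
    · exact absurd ((hh.eq_one_iff hc).1 e ▸ J.one_mem) cJ
    · exact absurd (hh.inj hc aV e ▸ cb1_Z2J ha) cJ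
    · exact absurd (hh.inj hc (V.mul_mem aV aV) (e.trans (hh.map_mul aV aV).symm) ▸
        cb1_Z2J (Z2.mul_mem ha ha)) cJ
    obtain ⟨i, -, k, -, rfl⟩ := e x hx
    refine (d.mem_pre.1 (Subgroup.mul_mem (d.pre _) (Subgroup.pow_mem _ (d.mem_pre.2 ⟨hm a aV, ?_⟩) i)
      (Subgroup.pow_mem _ (d.mem_pre.2 ⟨hm c hc, ?_⟩) k))).2
    · rw [f1 _ (mem_img_of_mem h ha)]; exact Subgroup.one_mem _
    · rw [f2, V_comm (hm c hc) (hm a aV), mul_inv_cancel_right]; exact Subgroup.mem_zpowers _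
  have zz : Subgroup.zpowers (h a) ≤ Z2 := Subgroup.zpowers_le.2 ha'
  have key := mem_aut_of_chain hF hV (cb1_ch (h a) (img Z2 h)) 4 rfl le_rfl (fun i hi => by
    interval_cases i
    exacts [bot_le, zz, le_sup_left, sup_le Z2_le_V AV]) (fun s hs i hi x hx hx' => by
      obtain ⟨t, -, e⟩ := mem_autInducedBy.1 hs
      obtain ⟨n1, n2⟩ := norm_V (s := t) fun v hv => e v hv ▸ afn_mem s hv
      have n3 : x ∈ Z2 → t * x * t⁻¹ * x⁻¹ = 1 := fun k => by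
        rw [Z2_comm k n1, mul_inv_cancel_right, mul_inv_cancel]
      rw [e x hx]
      interval_cases i
      · exact Subgroup.mem_bot.2 (n3 (zz hx'))
      · rw [n3 hx']; exact Subgroup.one_mem _
      · exact n2 x hx
      · exact Subgroup.mem_sup_left (n2 x hx)) hα fun i hi x hx hx' => by
    interval_cases i
    · exact Subgroup.mem_bot.2 (f1 x (Subgroup.zpowers_le.2 (mem_img_of_mem h ha) hx'))
    · exact f4 x hx'
    · exact (d.mono (sup_le Z2_le_V AV)).mem_of_sup (fun y hy => zz (f4 y hy))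
        (fun y hy => by rw [f1 y hy]; exact Z2.one_mem) x hx'
    · exact Subgroup.mem_sup_right (f3 x hx)
  obtain ⟨t, -, e⟩ := mem_autInducedBy.1 key
  have n1 := (norm_V (s := t) fun v hv => e v hv ▸ afn_mem α hv).1
  rw [e _ (hm c hc), Z2_comm hc' n1, mul_inv_cancel_right] at f2
  exact ha1 ((hh.eq_one_iff aV).1 (left_eq_mul.1 f2))

/-- `x ∈ V \ J`, `Zg (g x)`.  If `a ≠ 1`: `x a` is in the class (`V_orb`), `g (x a) ∈ J`, so `g a ∈ Z2`; `ti` gives `x ∈ J`. -/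
theorem CaseB.disj (hF : F.IsSaturated 3) (h : CaseB F g) {a : G} (ha : a ∈ Z2) (ha' : g a ∈ J) : a = 1 := by
  by_contra ha1
  obtain ⟨x, hx, xJ, hz⟩ := h.ex
  obtain ⟨j, -, ej⟩ := V_orb hx xJ ha
  have c1 : Cl F (g (x * a)) :=
    (ej ▸ ((Cl.of_zg hz).of_map h.map hx).conj j : Cl F (x * a)).map h.map (V.mul_mem hx (Z2_le_V ha))
  rw [h.map.map_mul hx (Z2_le_V ha)] at c1
  have z := cb1_Z12 hz.mem
  exact xJ (ti hF h.fn h.map h.mem ha ha1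
    ((Z2.mul_mem_cancel_left z).1 (h.clJ _ c1 (J.mul_mem (cb1_Z2J z) ha'))) hx z)

/-- the inverse map (`g z1 ∉ J` by `disj`) -/
theorem CaseB.inv (hF : F.IsSaturated 3) (h : CaseB F g) :
    ∃ g', CaseB F g' ∧ (∀ x ∈ V, g' (g x) = x) ∧ ∀ x ∈ V, g (g' x) = x := by
  obtain ⟨g', k1, k2, k3⟩ := cb1_inv h.map h.mem
  have zV := Z2_le_V cb1_z.2.2.1
  exact ⟨g', ⟨k1, fun x hx => (k3 x hx).1, ⟨g z1, h.mem _ zV, fun k => cb1_z.1 (h.disj hF cb1_z.2.2.1 k),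
    .inl (k2 _ zV)⟩, h.clJ, h.fn⟩, k2, fun x hx => (k3 x hx).2⟩

/-- `a' = g z1 ∈ V \ J` is in the class, so is `a' z2` (`V_orb`).  `c = g' z2 ∉ J` (`disj` for `g'`),
`j c j⁻¹ = c z1`, so `g c_j g'` maps `z2` to `z2 a'`. -/
theorem CaseB.cl (hF : F.IsSaturated 3) (h : CaseB F g) : Cl F z2 := by
  obtain ⟨g', h', -, k3⟩ := h.inv hF
  obtain ⟨n1, n2, m1, m2⟩ := cb1_z
  have v1 := Z2_le_V m1
  have v2 := Z2_le_V m2
  obtain ⟨j, -, ej⟩ := V_orb (h.mem _ v1) (fun k => n1 (h.disj hF m1 k)) m2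
  have c1 : Cl F (g z1 * z2) := ej ▸ ((Cl.of_zg (.inl rfl)).map h.map v1).conj j
  obtain ⟨i, -, ei⟩ := V_orb (h'.mem _ v2) (fun k => n2 (h'.disj hF m2 k)) m1
  have c2 : Cl F (g' z2 * z1) := Cl.of_map (by
    rwa [h.map.map_mul (h'.mem _ v2) v1, k3 _ v2, V_comm v2 (h.mem _ v1)]) h.map (V.mul_mem (h'.mem _ v2) v1)
  have c3 := c2.conj i⁻¹
  rw [← ei, show i⁻¹ * (i * g' z2 * i⁻¹) * i⁻¹⁻¹ = g' z2 by group] at c3
  exact c3.of_map h'.map v2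

/-- `ti`: `{c ∈ V | m c ∈ Z2} ≤ J`; its nonidentity elements are in the class (`Cl.of_z2`, `Cl.of_map`), so lie in
`Z2` (`clJ`); it has order 9. -/
theorem CaseB.stab (hF : F.IsSaturated 3) (h : CaseB F g) {m : G → G} (hm : IsMap F V m)
    (hm' : ∀ x ∈ V, m x ∈ V) {a : G} (ha : a ∈ Z2) (ha1 : a ≠ 1) (ha' : m a ∈ Z2) : ∀ w ∈ Z2, m w ∈ Z2 := by
  obtain ⟨m', k1, k2, k3⟩ := cb1_inv hm hm'
  have k : ∀ w ∈ Z2, m' w ∈ Z2 := fun w hw => by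
    obtain ⟨a1, a2⟩ := k3 w (Z2_le_V hw)
    by_cases n : w = 1
    · rw [n, k1.map_one]; exact Z2.one_mem
    exact h.clJ _ (((h.cl hF).of_z2 hw n).map k1 (Z2_le_V hw))
      (ti hF h.fn hm hm' ha ha1 ha' a1 (a2.symm ▸ hw))
  intro w hw
  obtain ⟨u, hu, rfl⟩ := (k1.mono Z2_le_V).mem_img.1 (((k1.mono Z2_le_V).img_eq_self k).ge hw)
  rwa [(k3 u (Z2_le_V hu)).2]

end Cfsg.Agent.T3F
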