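import Cfsg.Agent.T3F.Fast
import Cfsg.Agent.SpF.Tools
import Cfsg.Agent.Fus.Invariant
import Cfsg.Agent.Fus.FIso2

/-!
# The model `G` of a Sylow 3-subgroup of `Th` (order `3^10`): names, subgroups, decision procedures

The element number `n` (base 3 digits `a b c d f g h i k l`, most significant first) is
`y^a e3^b e2^c e0^d e1^f j5^g z4^h z3^i z2^k z1^l`.  `L k` = numbers `< 3^k` (all normal).
Nontrivial commutators `⁅a,b⁆ = a b a⁻¹ b⁻¹` of generators (numbers): ⁅y,e3⁆=4221 ⁅y,e2⁆=249 ⁅y,e0⁆=2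
⁅y,e1⁆=5 ⁅y,j5⁆=63 ⁅y,z4⁆=9 ⁅y,z2⁆=1 ⁅e3,e2⁆=81 ⁅e3,e0⁆=187 ⁅e3,e1⁆=28 ⁅e3,z3⁆=6 ⁅e2,e0⁆=33 ⁅e2,z4⁆=3
⁅e2,z3⁆=2 ⁅e0,e1⁆=18 ⁅e0,j5⁆=1 ⁅e1,e0⁆=9 ⁅e1,j5⁆=3 ⁅e1,z4⁆=2 ⁅j5,y⁆=45 ⁅z4,y⁆=18 ⁅z4,e1⁆=1 ⁅z3,e3⁆=3
⁅z3,e2⁆=1 ⁅z2,y⁆=2; cubes: `e2^3 = z2^2` (6), `e1^3 = z1^2` (2), the other generators have order 3.

Finite facts are proved by `BD.of (by decide +kernel)` (see the examples at the end): one product costs
about 0.25 ms, so keep each check below about 200000 products (use `∀ x ∈ L k`, `spl9`, `spl243`,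
`le_of_gens`), and put `set_option Elab.async false` in files with long checks.
-/

set_option autoImplicit false
set_option maxRecDepth 100000
set_option Elab.async false

namespace Cfsg.Agent.T3F

open Cfsg.Agent.Comp Cfsg.Agent.X32 Cfsg.Agent.Fus Cfsg.FusionSystem
open scoped commutatorElement

/-- the element with number `n` -/
noncomputable def el (n : ℕ) : G := TG.e n

noncomputable def z1 : G := el 1
noncomputable def z2 : G := el 3
noncomputable def z3 : G := el 9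
noncomputable def z4 : G := el 27
noncomputable def j5 : G := el 81
noncomputable def e1 : G := el 243
noncomputable def e0 : G := el 729
noncomputable def e2 : G := el 2187
noncomputable def e3 : G := el 6561
noncomputable def y : G := el 19683

theorem el_v (x : G) : el x.v = x := TG.e_v x
theorem v_el {n : ℕ} (h : n < 59049) : (el n).v = n := Nat.mod_eq_of_lt h
theorem v_lt (x : G) : x.v < 59049 := x.lt
theorem card_G : Nat.card G = 59049 := TG.card

theorem UpOK.mu_low {T : Tab} [hT : Fact T.OK] {n : ℕ} {t cf iv : ℕ → ℕ} {c : ℕ} {gs : List ℕ}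
    (h : UpOK T n t cf iv c gs) {x y : ℕ} (hx : x < T.n) (hy : y < T.n) :
    (up T n t cf iv).mu x y = T.mu x y := by
  have := h.mu_eq (a := 0) (b := 0) (by norm_num) (by norm_num) ⟨x, hx⟩ ⟨y, hy⟩
  simp only [zero_mul, zero_add, Nat.zero_mod, Nat.zero_div, pow_zero, one_mul, Function.iterate_zero,
    id_eq, mul_v] at this
  exact this

theorem mu_lt (k : ℕ) {a b : ℕ} (ha : a < 3 ^ k) (hb : b < 3 ^ k) (ha' : a < 59049) (hb' : b < 59049) :
    FT.mu a b < 3 ^ k ∧ FT.iv a < 3 ^ k := by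
  have h9 : ∀ {a b : ℕ}, a < 19683 → b < 19683 → FT.mu a b = A9.mu a b := fun ha hb =>
    (fS_eq _ (lt_trans ha (by decide)) _ (lt_trans hb (by decide))).trans
      ((u10.mu_low ha hb).trans (fE_eq ha hb))
  have h8 : ∀ {a b : ℕ}, a < 6561 → b < 6561 → FT.mu a b = A8.mu a b := fun ha hb =>
    (h9 (by omega) (by omega)).trans (u9.mu_low ha hb)
  have h7 : ∀ {a b : ℕ}, a < 2187 → b < 2187 → FT.mu a b = A7.mu a b := fun ha hb =>
    (h8 (by omega) (by omega)).trans (u8.mu_low ha hb)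
  have h6 : ∀ {a b : ℕ}, a < 729 → b < 729 → FT.mu a b = A6.mu a b := fun ha hb =>
    (h7 (by omega) (by omega)).trans (u7.mu_low ha hb)
  have h5 : ∀ {a b : ℕ}, a < 243 → b < 243 → FT.mu a b = B5.mu a b := fun ha hb =>
    (h6 (by omega) (by omega)).trans ((u6.mu_low ha hb).trans (adJ_eq _ ha _ hb))
  have h4 : ∀ {a b : ℕ}, a < 81 → b < 81 → FT.mu a b = B4.mu a b := fun ha hb =>
    (h5 (by omega) (by omega)).trans (u5.mu_low ha hb)
  have h3 : ∀ {a b : ℕ}, a < 27 → b < 27 → FT.mu a b = B3.mu a b := fun ha hb =>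
    (h4 (by omega) (by omega)).trans (u4.mu_low ha hb)
  have h2 : ∀ {a b : ℕ}, a < 9 → b < 9 → FT.mu a b = B2.mu a b := fun ha hb =>
    (h3 (by omega) (by omega)).trans (u3.mu_low ha hb)
  have h1 : ∀ {a b : ℕ}, a < 3 → b < 3 → FT.mu a b = B1.mu a b := fun ha hb =>
    (h2 (by omega) (by omega)).trans (u2.mu_low ha hb)
  have h0 : ∀ {a b : ℕ}, a < 1 → b < 1 → FT.mu a b = B0.mu a b := fun ha hb =>
    (h1 (by omega) (by omega)).trans (u1.mu_low ha hb)
  by_cases hk : 10 ≤ k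
  · have : 59049 ≤ 3 ^ k := le_trans (by norm_num) (Nat.pow_le_pow_right (by norm_num) hk)
    exact ⟨(fF.out.lt a ha' b hb').trans_le this, (fF.out.ivlt a ha').trans_le this⟩
  · push Not at hk
    interval_cases k
    · obtain rfl : a = 0 := by omega
      exact ⟨h0 ha hb ▸ f0.out.lt _ ha _ hb, by decide +kernel⟩
    · exact ⟨h1 ha hb ▸ f1.out.lt _ ha _ hb, f1.out.ivlt _ ha⟩
    · exact ⟨h2 ha hb ▸ f2.out.lt _ ha _ hb, f2.out.ivlt _ ha⟩
    · exact ⟨h3 ha hb ▸ f3.out.lt _ ha _ hb, f3.out.ivlt _ ha⟩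
    · exact ⟨h4 ha hb ▸ f4.out.lt _ ha _ hb, f4.out.ivlt _ ha⟩
    · exact ⟨h5 ha hb ▸ f5.out.lt _ ha _ hb, f5.out.ivlt _ ha⟩
    · exact ⟨h6 ha hb ▸ f6.out.lt _ ha _ hb, f6.out.ivlt _ ha⟩
    · exact ⟨h7 ha hb ▸ f7.out.lt _ ha _ hb, f7.out.ivlt _ ha⟩
    · exact ⟨h8 ha hb ▸ f8.out.lt _ ha _ hb, f8.out.ivlt _ ha⟩
    · exact ⟨h9 ha hb ▸ f9.out.lt _ ha _ hb, f9.out.ivlt _ ha⟩

/-- the elements with number `< 3^k` -/
def L (k : ℕ) : Subgroup G where
  carrier := {x | x.v < 3 ^ k}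
  mul_mem' := fun {a b} ha hb => (mu_lt k ha hb a.lt b.lt).1
  one_mem' := Nat.pos_of_ne_zero (by positivity)
  inv_mem' := fun {a} ha => (mu_lt k ha ha a.lt a.lt).2

theorem mem_L {k : ℕ} {x : G} : x ∈ L k ↔ x.v < 3 ^ k := Iff.rfl

theorem L_mono {k m : ℕ} (h : k ≤ m) : L k ≤ L m := fun _ hx =>
  lt_of_lt_of_le hx (Nat.pow_le_pow_right (by norm_num) h)

theorem L_ten : L 10 = ⊤ := eq_top_iff.2 fun x _ => x.lt

theorem L_zero : L 0 = ⊥ := eq_bot_iff.2 fun _ hx => TG.ext (Nat.lt_one_iff.1 hx)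

theorem card_L {k : ℕ} (hk : k ≤ 10) : Nat.card (L k) = 3 ^ k := by
  have h : 3 ^ k ≤ 59049 := le_trans (Nat.pow_le_pow_right (by norm_num) hk) (by norm_num)
  rw [Nat.card_congr (⟨fun x => ⟨x.1.v, x.2⟩, fun i => ⟨⟨i.1, lt_of_lt_of_le i.2 h⟩, i.2⟩,
    fun _ => rfl, fun _ => rfl⟩ : L k ≃ Fin (3 ^ k))]
  simp

abbrev Z1 : Subgroup G := L 1
abbrev Z2 : Subgroup G := L 2
abbrev Z3 : Subgroup G := L 3
abbrev Z4 : Subgroup G := L 4
abbrev J : Subgroup G := L 5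
abbrev C3 : Subgroup G := L 7
abbrev Z6 : Subgroup G := L 8
abbrev E1 : Subgroup G := L 9

/-- centraliser of an element -/
noncomputable def Cz (r : G) : Subgroup G := Subgroup.centralizer {r}

theorem mem_Cz {a r : G} : a ∈ Cz r ↔ a * r = r * a := Subgroup.mem_centralizer_singleton_iff

/-! ### decision procedures -/

instance evComm (a b : G) {m n : ℕ} [TG.EV a m] [TG.EV b n] : TG.EV ⁅a, b⁆
    (force m fun m => force n fun n => FT.mu (FT.mu (FT.mu m n) (FT.iv m)) (FT.iv n)) :=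
  ⟨by rw [force_eq, force_eq, ← TG.EV.h (a := a), ← TG.EV.h (a := b)]; rfl⟩

instance bdMemL (a : G) (k : ℕ) {m : ℕ} [TG.EV a m] : BD (a ∈ L k) (Nat.blt m (Nat.pow 3 k)) :=
  ⟨by rw [← TG.EV.h (a := a), blt_iff]; rfl⟩

instance bdNotMem (a : G) (H : Subgroup G) {b : Bool} [BD (a ∈ H) b] : BD (a ∉ H) (not' b) := BD.instNot

instance bdMemCz (a r : G) {m n : ℕ} [TG.EV a m] [TG.EV r n] :
    BD (a ∈ Cz r) (force m fun m => force n fun n => Nat.beq (FT.mu m n) (FT.mu n m)) :=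
  ⟨(TG.instCommute a r).h.trans mem_Cz.symm⟩

instance bdMemInf (a : G) (H K : Subgroup G) {b c : Bool} [BD (a ∈ H) b] [BD (a ∈ K) c] :
    BD (a ∈ H ⊓ K) (and' b c) := ⟨(BD.instAnd (p := a ∈ H) (q := a ∈ K)).h.trans Subgroup.mem_inf.symm⟩

theorem el_mem_L {k i : ℕ} (h : i < 3 ^ k) : el i ∈ L k := lt_of_le_of_lt (Nat.mod_le _ _) h

set_option synthInstance.checkSynthOrder false in
instance (priority := high) bdAllL (k : ℕ) {p : G → Prop} {f : G → Bool} [∀ a, BD (p a) (f a)] :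
    BD (∀ a ∈ L k, p a) (allB (Nat.pow 3 k) fun i => f (el i)) := ⟨by
  simp only [allB_iff, BD.h (p := p _)]
  exact ⟨fun h a ha => el_v a ▸ h _ ha, fun h i hi => h _ (el_mem_L hi)⟩⟩

set_option synthInstance.checkSynthOrder false in
instance (priority := high) bdExL (k : ℕ) {p : G → Prop} {f : G → Bool} [∀ a, BD (p a) (f a)] :
    BD (∃ a ∈ L k, p a) (anyLT (Nat.pow 3 k) fun i => f (el i)) := ⟨by
  simp only [anyLT_iff, BD.h (p := p _)]
  exact ⟨fun ⟨i, hi, h⟩ => ⟨_, el_mem_L hi, h⟩, fun ⟨a, ha, h⟩ => ⟨_, ha, (el_v a).symm ▸ h⟩⟩⟩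

/-- quantification over numbers, e.g. coset representatives `∀ q < 243, p (el (243 * q))` -/
def AllN (n : ℕ) (p : ℕ → Prop) : Prop := ∀ i < n, p i

set_option synthInstance.checkSynthOrder false in
instance bdAllN (n : ℕ) {p : ℕ → Prop} {f : ℕ → Bool} [∀ a, BD (p a) (f a)] :
    BD (AllN n p) (allB n f) := ⟨by simp only [allB_iff, BD.h (p := p _), AllN]⟩

theorem cnt_aux (n k : ℕ) (h : n ≤ 2 ^ k) (f : ℕ → Bool) :
    cntLT n f = cntPow k fun i => and' (Nat.blt i n) (f i) := by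
  rw [cntLT_eq, cntPow_eq]
  refine congrArg Finset.card (Finset.ext fun i => ?_)
  simp only [Finset.mem_filter, Finset.mem_range, and'_eq_true, blt_iff]
  exact ⟨fun h' => ⟨h'.1.trans_le h, h'⟩, fun h => h.2⟩

/-- counting the elements of `G` with a property (two to the 16 steps) -/
theorem card_count (p : G → Prop) {f : G → Bool} [∀ k, BD (p k) (f k)] :
    Nat.card {k // p k} = cntPow 16 fun i => and' (Nat.blt i 59049) (f (el i)) := by
  rw [TG.card_eq p]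
  exact cnt_aux 59049 16 (by norm_num) fun i => f (el i)

/-! ### generation, normality, splitting -/

/-- the polycyclic generators -/
noncomputable def pcs : List G := [y, e3, e2, e0, e1, j5, z4, z3, z2, z1]

theorem gen_chk : ∀ x < 59049, x = 0 ∨ ∃ k ∈ [19683, 6561, 2187, 729, 243, 81, 27, 9, 3, 1],
    k ≤ x ∧ FT.mu k (x - k) = x := by
  have : (allB 59049 fun x => or' (Nat.beq x 0) (anyL [19683, 6561, 2187, 729, 243, 81, 27, 9, 3, 1] fun k =>
      and' (Nat.ble k x) (Nat.beq (FT.mu k (Nat.sub x k)) x))) = true := by decide +kernel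
  simp only [allB_iff, or'_eq_true, anyL_iff, and'_eq_true, beq_iff, Nat.ble_eq] at this
  exact this

theorem L_ind {k : ℕ} {p : G → Prop} (p1 : p 1)
    (pm : ∀ g ∈ pcs, g ∈ L k → ∀ x ∈ L k, p x → p (g * x)) : ∀ x ∈ L k, p x := by
  intro x hx
  induction h : x.v using Nat.strong_induction_on generalizing x with
  | _ n ih =>
    rcases gen_chk _ x.lt with h0 | ⟨g, hg, h1, h2⟩
    · exact (TG.ext h0 : x = 1) ▸ p1
    · have hx' := v_lt x
      have hk : x.v < 3 ^ k := hx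
      have g0 : 0 < g ∧ el g ∈ pcs := by
        simp only [List.mem_cons, List.not_mem_nil, or_false] at hg
        rcases hg with rfl | rfl | rfl | rfl | rfl | rfl | rfl | rfl | rfl | rfl <;>
          simp [pcs, y, e3, e2, e0, e1, j5, z4, z3, z2, z1]
      have e : x = el g * el (x.v - g) :=
        TG.ext (by rw [mul_v, v_el (by omega), v_el (by omega), h2])
      rw [e]
      exact pm _ g0.2 (el_mem_L (by omega)) _ (el_mem_L (by omega))
        (ih (x.v - g) (by omega) _ (el_mem_L (by omega)) (v_el (by omega)))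

theorem le_of_gens {k : ℕ} {H : Subgroup G} (h : ∀ g ∈ pcs, g ∈ L k → g ∈ H) : L k ≤ H :=
  fun x hx => L_ind (p := (· ∈ H)) H.one_mem (fun g hg hk _ _ hx => H.mul_mem (h g hg hk) hx) x hx

theorem G_ind {p : G → Prop} (p1 : p 1) (pm : ∀ g ∈ pcs, ∀ x, p x → p (g * x)) (x : G) : p x :=
  L_ind (k := 10) p1 (fun g hg _ x _ => pm g hg x) x x.lt

theorem conj_gens : ∀ k ∈ [0, 1, 2, 3, 4, 5, 6, 7, 8, 9], ∀ g ∈ pcs, ∀ h ∈ pcs, h ∈ L k → g * h * g⁻¹ ∈ L k :=
  BD.of (by decide +kernel)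

instance normal_L (k : ℕ) : (L k).Normal := by
  by_cases hk : 10 ≤ k
  · rw [show L k = ⊤ from top_le_iff.1 (L_ten ▸ L_mono hk)]; infer_instance
  refine ⟨fun x hx s => G_ind (p := fun s => ∀ x ∈ L k, s * x * s⁻¹ ∈ L k) (by simp) (fun g hg s ih x hx => ?_) s x hx⟩
  have : L k ≤ (L k).comap (MulAut.conj g).toMonoidHom :=
    le_of_gens fun h hh hk' => conj_gens k (by simp only [List.mem_cons]; omega) g hg h hh hk'
  simpa [mul_assoc] using this (ih x hx)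

theorem spl_of {m : ℕ} (h : (allB 59049 fun x => Nat.beq (FT.mu (Nat.mul m (Nat.div x m)) (Nat.mod x m)) x) = true)
    (x : G) : el (m * (x.v / m)) * el (x.v % m) = x := by
  simp only [allB_iff, beq_iff] at h
  have := v_lt x
  refine TG.ext ?_
  rw [mul_v, v_el (lt_of_le_of_lt (Nat.mul_div_le _ _) this), v_el (lt_of_le_of_lt (Nat.mod_le _ _) this)]
  exact h _ this

theorem spl9 (x : G) : el (9 * (x.v / 9)) * el (x.v % 9) = x := spl_of (by decide +kernel) x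
theorem spl243 (x : G) : el (243 * (x.v / 243)) * el (x.v % 243) = x := spl_of (by decide +kernel) x

theorem pG : IsPGroup 3 (⊤ : Subgroup G) :=
  SpF.pU (IsPGroup.of_card (n := 10) (by rw [card_G]; norm_num))

/-! ### further subgroups, classes of elements of order three -/

/-- `C_G(Z4) = ⟨e0⟩ J`, order `3^6` -/
noncomputable def C4 : Subgroup G := C3 ⊓ Cz z4
/-- `⟨z3, z1⟩` -/
noncomputable def W0 : Subgroup G := Z3 ⊓ Cz y
/-- the second maximal subgroup (digit `b = 0`) -/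
noncomputable def E2 : Subgroup G := Subgroup.normalizer (W0 : Set G)
/-- the elementary abelian group `E3` of order `3^5`, generated by the numbers `1, 3, 90, 2916, 6849` -/
noncomputable def V : Subgroup G := Cz (el 2916)

instance bdC4 (a : G) {b : Bool} [h : BD (a ∈ C3 ⊓ Cz z4) b] : BD (a ∈ C4) b := h
instance bdW0 (a : G) {b : Bool} [h : BD (a ∈ Z3 ⊓ Cz y) b] : BD (a ∈ W0) b := h
instance bdV (a : G) {b : Bool} [h : BD (a ∈ Cz (el 2916)) b] : BD (a ∈ V) b := h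

/-- a generator of the centre -/
def Zg (u : G) : Prop := u = z1 ∨ u = z1⁻¹

instance bdZg (a : G) {b : Bool} [h : BD (a = z1 ∨ a = z1⁻¹) b] : BD (Zg a) b := h

/-- `x` or its inverse is conjugate to `r` -/
def Cj (x r : G) : Prop := ∃ s : G, s * x * s⁻¹ = r ∨ s * x⁻¹ * s⁻¹ = r

/-- `x` or its inverse is conjugate to an element with number in `l` -/
def Ty (l : List ℕ) (x : G) : Prop := ∃ r ∈ l, Cj x (el r)

/-- `z3` -/
def R1 : List ℕ := [9]
/-- `z4, j5, j5 z3, j5 z3²` -/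
def R2 : List ℕ := [27, 81, 90, 99]
/-- `e0, e0 z2, e0 z2²` -/
def R3 : List ℕ := [729, 732, 735]
/-- elements of `V \ J` -/
def R4 : List ℕ := [2916, 3006, 3096, 6849, 6912, 7002, 9747, 9837, 9927, 12645, 12735, 12798]
/-- `e3, e3 z1, e3 z1²` -/
def R5 : List ℕ := [6561, 6562, 6563]
/-- `y, y e0, y e0²` -/
def R6 : List ℕ := [19683, 20412, 21141]

/-- no relation `a^i b^j c^k = 1` with exponents in `{0,1,2}` not all zero -/
def Ind (a b c : G) : Prop :=
  ∀ i ∈ [0, 1, 2], ∀ j ∈ [0, 1, 2], ∀ k ∈ [0, 1, 2], a ^ i * b ^ j * c ^ k = 1 → i + j + k = 0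

instance bdInd (a b c : G) {t : Bool} [h : BD (∀ i ∈ [0, 1, 2], ∀ j ∈ [0, 1, 2], ∀ k ∈ [0, 1, 2],
    a ^ i * b ^ j * c ^ k = 1 → i + j + k = 0) t] : BD (Ind a b c) t := h

/-! ### fusion notions -/

/-- fusion systems on the model -/
abbrev FS : Type := FusionSystem (⊤ : Subgroup G)

/-- `x` is `F`-conjugate to a generator of the centre -/
def Cl (F : FS) (x : G) : Prop := ∃ f, IsMap F (Subgroup.zpowers x) f ∧ Zg (f x)

/-- the automorphism `z1 ↦ u, z2 ↦ v` of `Z2` is a map of `E` (a system on any subgroup) -/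
def M2 {T : Subgroup G} (E : FusionSystem T) (u v : G) : Prop := ∃ f, IsMap E Z2 f ∧ f z1 = u ∧ f z2 = v

/-- `E2` has an automorphism moving `Z2` -/
structure CaseA (F : FS) (ψ : G → G) : Prop where
  map : IsMap F E2 ψ
  mem : ∀ x ∈ E2, ψ x ∈ E2
  hz1 : Zg (ψ z1)
  hz2 : ψ z2 ∈ Z3
  hz2' : ψ z2 ∉ Z2
  hz3 : ψ z3 ∈ Z2
  hz3' : ψ z3 ∉ Z1

/-- `V` has an automorphism moving an element outside `J` into the centre -/
structure CaseB (F : FS) (g : G → G) : Prop where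
  map : IsMap F V g
  mem : ∀ x ∈ V, g x ∈ V
  ex : ∃ x ∈ V, x ∉ J ∧ Zg (g x)
  clJ : ∀ w, Cl F w → w ∈ J → w ∈ Z2
  fn : F.IsFullyNormalized V

/-! ### examples of checks -/

example : ∀ a ∈ C3, a ^ 3 ∈ Z1 := BD.of (by decide +kernel)
example : ⁅e0, j5⁆ = z1 ∧ e2 ^ 3 = z2 ^ 2 ∧ e0 ∈ C4 ∧ el 6849 ∈ V ∧ Ind z4 (z4 * z1) (z4 * z2) :=
  BD.of (by decide +kernel)
example : ∀ r ∈ R2, ∃ s ∈ TG.es [486, 729], s * el r * s⁻¹ = el r * z1 := BD.of (by decide +kernel)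
example : AllN 81 fun q => ⁅el (243 * q), e1⁆ ∈ J := BD.of (by decide +kernel)

end Cfsg.Agent.T3F
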