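import Cfsg.Agent.T3F.Defs

/-! Finite facts about the model `G` (all checked by computer).  Prove by `BD.of (by decide +kernel)` on
generators / cosets, and extend by `L_ind`, `G_ind`, `le_of_gens`, `spl243` (a product costs 0.25 ms). -/

set_option autoImplicit false
set_option maxRecDepth 100000
set_option Elab.async false

namespace Cfsg.Agent.T3F

open Cfsg.Agent.Comp Cfsg.Agent.X32 Cfsg.Agent.Fus Cfsg.FusionSystem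
open scoped commutatorElement

theorem fin_comm {k m : ℕ} (h : ∀ g ∈ pcs, g ∈ L k → ∀ g' ∈ pcs, g' ∈ L m → g ∈ Cz g') {a b : G}
    (ha : a ∈ L k) (hb : b ∈ L m) : a * b = b * a :=
  (mem_Cz.1 (le_of_gens (H := Cz a) (fun g' hg' hm => mem_Cz.2
    (mem_Cz.1 (le_of_gens (H := Cz g') (fun g hg hk => h g hg hk g' hg' hm) ha)).symm) hb)).symm

/-- the elements commuting with `b` modulo `N` -/
noncomputable def Cm (N : Subgroup G) [N.Normal] (b : G) : Subgroup G :=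
  (Subgroup.centralizer {QuotientGroup.mk' N b}).comap (QuotientGroup.mk' N)

theorem mem_Cm {N : Subgroup G} [N.Normal] {a b : G} : a ∈ Cm N b ↔ ⁅a, b⁆ ∈ N := by
  rw [Cm, Subgroup.mem_comap, Subgroup.mem_centralizer_singleton_iff,
    ← commutatorElement_eq_one_iff_mul_comm, ← map_commutatorElement]
  exact QuotientGroup.eq_one_iff _

theorem fin_sw {N : Subgroup G} {a b : G} (h : ⁅a, b⁆ ∈ N) : ⁅b, a⁆ ∈ N := by
  rw [← commutatorElement_inv]; exact inv_mem h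

theorem fin_cm {k m n : ℕ} (h : ∀ g ∈ pcs, g ∈ L k → ∀ g' ∈ pcs, g' ∈ L m → ⁅g, g'⁆ ∈ L n) {a b : G}
    (ha : a ∈ L k) (hb : b ∈ L m) : ⁅a, b⁆ ∈ L n :=
  fin_sw (mem_Cm.1 (le_of_gens (H := Cm (L n) a) (fun g' hg' hm => mem_Cm.2 (fin_sw
    (mem_Cm.1 (le_of_gens (H := Cm (L n) g') (fun g hg hk => mem_Cm.2 (h g hg hk g' hg' hm)) ha)))) hb))

theorem fin_spl (a : G) : ∃ q < 243, ∃ j ∈ J, a = el (243 * q) * j :=
  ⟨a.v / 243, by have := v_lt a; omega, _, el_mem_L (Nat.mod_lt _ (by norm_num)), (spl243 a).symm⟩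

theorem fin_JJ {a b : G} (ha : a ∈ J) (hb : b ∈ J) : a * b = b * a :=
  fin_comm (k := 5) (m := 5) (BD.of (by decide +kernel)) ha hb

theorem fin_Cz {t j r : G} (hr : r ∈ J) (hj : j ∈ J) (h : t * j ∈ Cz r) : t ∈ Cz r :=
  (mul_mem_cancel_right (mem_Cz.2 (fin_JJ hj hr))).1 h

theorem fin_J {a : G} (h1 : a ∈ Cz j5) (h2 : a ∈ Cz z4) (h3 : a ∈ Cz z3) (h4 : a ∈ Cz z2) : a ∈ J := by
  obtain ⟨q, hq, j, hj, rfl⟩ := fin_spl a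
  have k : j5 ∈ J ∧ z4 ∈ J ∧ z3 ∈ J ∧ z2 ∈ J := BD.of (by decide +kernel)
  exact mul_mem ((BD.of (by decide +kernel) : AllN 243 fun q => el (243 * q) ∈ Cz j5 →
    el (243 * q) ∈ Cz z4 → el (243 * q) ∈ Cz z3 → el (243 * q) ∈ Cz z2 → el (243 * q) ∈ J) q hq
    (fin_Cz k.1 hj h1) (fin_Cz k.2.1 hj h2) (fin_Cz k.2.2.1 hj h3) (fin_Cz k.2.2.2 hj h4)) hj

theorem fin_step {k : ℕ} {T : Subgroup G} (hk : k < 10) (h : L k ≤ T) {u : G} (hu : u ∈ T)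
    (h1 : u ∈ L (k + 1)) (h2 : u ∉ L k) : L (k + 1) ≤ T := by
  have d1 : Nat.card (T ⊓ L (k + 1) : Subgroup G) ∣ 3 ^ (k + 1) :=
    card_L (k := k + 1) hk ▸ Subgroup.card_dvd_of_le inf_le_right
  obtain ⟨m, hm, e⟩ := (Nat.dvd_prime_pow Nat.prime_three).1 d1
  have d2 : ¬ Nat.card (T ⊓ L (k + 1) : Subgroup G) ≤ Nat.card (L k) := fun c =>
    h2 (Subgroup.eq_of_le_of_card_ge (le_inf h (L_mono (Nat.le_succ k))) c ▸ (⟨hu, h1⟩ : u ∈ T ⊓ L (k + 1)))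
  rw [card_L hk.le, e, Nat.pow_le_pow_iff_right (by norm_num)] at d2
  refine inf_eq_right.1 (Subgroup.eq_of_le_of_card_ge inf_le_right ?_)
  rw [card_L (k := k + 1) hk, e]
  exact Nat.pow_le_pow_right (by norm_num) (by omega)

theorem fin_top {K : Type*} [Group K] {a b c d : K} (h1 : Commute c b) (h2 : Commute c d)
    (h3 : Commute d a) (h4 : Commute d b) : ⁅a * c, b * d⁆ = ⁅a, b⁆ := by
  have _ := h4
  rw [commutatorElement_def, commutatorElement_def, mul_inv_rev, mul_inv_rev, mul_assoc a c,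
    (h1.mul_right h2).eq]
  calc _ = a * b * (d * a⁻¹) * d⁻¹ * b⁻¹ := by group
    _ = _ := by rw [h3.inv_right.eq]; group

theorem fin_cube : ∀ a ∈ C3, a ^ 3 ∈ Z1 ∧ (a ^ 3 = 1 → a ∈ C4) := BD.of (by decide +kernel)

theorem fin_cy {T : Subgroup G} (h : J ≤ T) {t j : G} (hj : j ∈ J) : ⁅t * j, y⁆ ∈ T ↔ ⁅t, y⁆ ∈ T := by
  have k : t * (j * (y * j⁻¹ * y⁻¹)) * t⁻¹ ∈ J :=
    (normal_L 5).conj_mem _ (mul_mem hj ((normal_L 5).conj_mem _ (inv_mem hj) y)) t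
  rw [show ⁅t * j, y⁆ = t * (j * (y * j⁻¹ * y⁻¹)) * t⁻¹ * ⁅t, y⁆ by
    simp only [commutatorElement_def]; group, mul_mem_cancel_left (h k)]

theorem Cj.mem_iff {x r : G} (h : Cj x r) {N : Subgroup G} [hN : N.Normal] : x ∈ N ↔ r ∈ N := by
  obtain ⟨s, rfl | rfl⟩ := h
  · exact (hN.mem_comm_iff.trans (by simp)).symm
  · exact (hN.mem_comm_iff.trans (by simp)).symm

theorem mem_Z1 {u : G} : u ∈ Z1 ↔ u = 1 ∨ Zg u :=
  ⟨(BD.of (by decide +kernel) : ∀ u ∈ Z1, u = 1 ∨ Zg u) u, by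
    have h : z1 ∈ Z1 := BD.of (by decide +kernel)
    rintro (rfl | rfl | rfl)
    exacts [one_mem _, h, inv_mem h]⟩

theorem Zg.mem {u : G} (h : Zg u) : u ∈ Z1 := mem_Z1.2 (Or.inr h)

theorem Zg.ne_one {u : G} (h : Zg u) : u ≠ 1 := by
  have k : z1 ≠ 1 := BD.of (by decide +kernel)
  rcases h with rfl | rfl
  exacts [k, inv_ne_one.2 k]

/-- `Z1` is central (check on `pcs`, then `G_ind`) -/
theorem Z1_comm {u : G} (h : u ∈ Z1) (a : G) : a * u = u * a :=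
  fin_comm (k := 10) (m := 1) (BD.of (by decide +kernel)) a.lt h

/-- the centre is `Z1` (test with the generators `y, e3, e0, e1, j5, z3, z2`, lazily) -/
theorem mem_Z1_of_comm {u : G} (h : ∀ a, a * u = u * a) : u ∈ Z1 :=
  (BD.of (by decide +kernel) : ∀ u ∈ J, y ∈ Cz u → e3 ∈ Cz u → e0 ∈ Cz u → e1 ∈ Cz u → u ∈ Z1) u
    (fin_J (mem_Cz.2 (h _).symm) (mem_Cz.2 (h _).symm) (mem_Cz.2 (h _).symm) (mem_Cz.2 (h _).symm))
    (mem_Cz.2 (h _)) (mem_Cz.2 (h _)) (mem_Cz.2 (h _)) (mem_Cz.2 (h _))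

theorem Z2_comm {u a : G} (h : u ∈ Z2) (ha : a ∈ E1) : a * u = u * a :=
  fin_comm (k := 9) (m := 2) (BD.of (by decide +kernel)) ha h

theorem comm_Z2 {u : G} (h : u ∈ Z2) (a : G) : ⁅u, a⁆ ∈ Z1 :=
  fin_cm (k := 2) (m := 10) (n := 1) (BD.of (by decide +kernel)) h a.lt

/-- `C(w) = E1` for `w ∈ Z2 \ Z1` (write `a = y^i e` with `e ∈ E1`, or use `step` below with `T = Cz w`) -/
theorem Cz_Z2 {w : G} (h : w ∈ Z2) (h' : w ∉ Z1) : Cz w = E1 := by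
  have le : E1 ≤ Cz w := fun a ha => mem_Cz.2 (Z2_comm h ha)
  refine le_antisymm (fun a ha => by_contra fun na => h' ?_) le
  exact (BD.of (by decide +kernel) : ∀ w ∈ Z2, y ∈ Cz w → w ∈ Z1) w h
    (fin_step (k := 9) (by norm_num) le ha a.lt na y.lt)

theorem Cj_Z2 {w : G} (h : w ∈ Z2) (h' : w ∉ Z1) : Cj w z2 := by
  obtain ⟨s, -, e⟩ := (BD.of (by decide +kernel) : ∀ w ∈ Z2, w ∉ Z1 → ∃ s ∈ [1, y, y⁻¹],
    s * w * s⁻¹ = z2 ∨ s * w⁻¹ * s⁻¹ = z2) w h h'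
  exact ⟨s, e⟩

theorem Cj_Z3 {w : G} (h : w ∈ Z3) (h' : w ∉ Z2) : Cj w z3 := by
  obtain ⟨s, -, e⟩ := (BD.of (by decide +kernel) : ∀ w ∈ Z3, w ∉ Z2 →
    ∃ s ∈ TG.es [0, 2187, 4374, 6561, 8748, 10935, 13122, 15309, 17496],
      s * w * s⁻¹ = z3 ∨ s * w⁻¹ * s⁻¹ = z3) w h h'
  exact ⟨s, e⟩

theorem J_comm {a b : G} (ha : a ∈ J) (hb : b ∈ J) : a * b = b * a := fin_JJ ha hb

theorem J_pow {a : G} (ha : a ∈ J) : a ^ 3 = 1 := (BD.of (by decide +kernel) : ∀ a ∈ J, a ^ 3 = 1) a ha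

/-- `J` is self-centralising -/
theorem mem_J_of_comm {a : G} (h1 : a ∈ Cz j5) (h2 : a ∈ Cz z4) (h3 : a ∈ Cz z3) (h4 : a ∈ Cz z2) : a ∈ J :=
  fin_J h1 h2 h3 h4

theorem comm_J {j a : G} (hj : j ∈ J) (ha : a ∈ E1) : ⁅j, a⁆ ∈ Z2 :=
  fin_cm (k := 5) (m := 9) (n := 2) (BD.of (by decide +kernel)) hj ha

/-- modulo `Z2` commutators in `E1` depend only on the cosets of `J` (compute in `G ⧸ Z2`, use `spl243`, `comm_J`) -/
theorem comm_top {p q : G} (hp : p ∈ E1) (hq : q ∈ E1) :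
    ⁅p, q⁆ * ⁅el (243 * (p.v / 243)), el (243 * (q.v / 243))⁆⁻¹ ∈ Z2 := by
  have hp' : el (p.v % 243) ∈ J := el_mem_L (Nat.mod_lt _ (by norm_num))
  have hq' : el (q.v % 243) ∈ J := el_mem_L (Nat.mod_lt _ (by norm_num))
  have e1 := spl243 p
  have e2 := spl243 q
  generalize el (243 * (p.v / 243)) = a, el (243 * (q.v / 243)) = b, el (p.v % 243) = c,
    el (q.v % 243) = d at *
  subst e1 e2
  have JE : J ≤ E1 := L_mono (by norm_num)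
  have ha : a ∈ E1 := (mul_mem_cancel_right (JE hp')).1 hp
  have hb : b ∈ E1 := (mul_mem_cancel_right (JE hq')).1 hq
  have k : ∀ {j x : G}, j ∈ J → x ∈ E1 →
      Commute (QuotientGroup.mk' Z2 j) (QuotientGroup.mk' Z2 x) := fun hj hx => by
    rw [← commutatorElement_eq_one_iff_commute, ← map_commutatorElement]
    exact (QuotientGroup.eq_one_iff _).2 (comm_J hj hx)
  rw [← QuotientGroup.eq_one_iff, ← QuotientGroup.mk'_apply, map_mul, map_inv, map_commutatorElement,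
    map_commutatorElement, map_mul, map_mul, mul_inv_eq_one]
  exact fin_top (k hp' hb) (k hp' (JE hq')) (k hq' ha) (k hq' hb)

theorem comm_E1 {a b : G} (ha : a ∈ E1) (hb : b ∈ E1) : ⁅a, b⁆ ∈ J :=
  fin_cm (k := 9) (m := 9) (n := 5) (BD.of (by decide +kernel)) ha hb

theorem comm_Z6 {a b : G} (ha : a ∈ Z6) (hb : b ∈ Z6) : ⁅a, b⁆ ∈ Z4 :=
  fin_cm (k := 8) (m := 8) (n := 4) (BD.of (by decide +kernel)) ha hb

theorem J_le_C4 : J ≤ C4 := fun _ ha =>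
  ⟨L_mono (k := 5) (m := 7) (by norm_num) ha, mem_Cz.2 (J_comm ha (BD.of (by decide +kernel)))⟩

theorem C4_cos {a : G} (ha : a ∈ C4) : a ∈ J ∨ e0 * a ∈ J ∨ e0⁻¹ * a ∈ J := by
  obtain ⟨q, hq, j, hj, rfl⟩ := fin_spl a
  have := (BD.of (by decide +kernel) : AllN 243 fun q => el (243 * q) ∈ C4 →
    el (243 * q) ∈ J ∨ e0 * el (243 * q) ∈ J ∨ e0⁻¹ * el (243 * q) ∈ J) q hq
    ((mul_mem_cancel_right (J_le_C4 hj)).1 ha)
  simpa only [← mul_assoc, mul_mem_cancel_right hj] using this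

theorem fin_C4_le {T : Subgroup G} (h : J ≤ T) (he : e0 ∈ T) : C4 ≤ T := fun _ ha => by
  rcases C4_cos ha with k | k | k
  exacts [h k, (mul_mem_cancel_left he).1 (h k), (mul_mem_cancel_left (inv_mem he)).1 (h k)]

/-- `C4' = Z1` (use `C4_cos`; `⁅j, e0⁆ ∈ Z1` for `j ∈ J`; compute in `G ⧸ Z1`) -/
theorem comm_C4 {a b : G} (ha : a ∈ C4) (hb : b ∈ C4) : ⁅a, b⁆ ∈ Z1 := by
  have h0 : ∀ j ∈ J, ⁅j, e0⁆ ∈ Z1 := BD.of (by decide +kernel)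
  refine mem_Cm.1 (fin_C4_le (fun j hj => mem_Cm.2 (fin_sw (mem_Cm.1 (fin_C4_le (fun i hi => mem_Cm.2 ?_)
    (mem_Cm.2 (fin_sw (h0 j hj))) hb)))) (mem_Cm.2 (fin_sw (mem_Cm.1 (fin_C4_le
      (fun j hj => mem_Cm.2 (h0 j hj)) (mem_Cm.2 ?_) hb)))) ha)
  · rw [commutatorElement_eq_one_iff_mul_comm.2 (J_comm hi hj)]; exact one_mem _
  · rw [commutatorElement_self]; exact one_mem _

theorem C4_comm {a u : G} (ha : a ∈ C4) (hu : u ∈ Z4) : a * u = u * a :=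
  mem_Cz.1 (fin_C4_le (fun _ hj => mem_Cz.2 (J_comm hj (L_mono (k := 4) (m := 5) (by norm_num) hu)))
    ((BD.of (by decide +kernel) : ∀ u ∈ Z4, e0 ∈ Cz u) u hu) ha)

theorem C3_comm {a u : G} (ha : a ∈ C3) (hu : u ∈ Z3) : a * u = u * a :=
  fin_comm (k := 7) (m := 3) (BD.of (by decide +kernel)) ha hu

theorem mem_C3 {a : G} (h2 : a ∈ Cz z2) (h3 : a ∈ Cz z3) : a ∈ C3 := by
  obtain ⟨q, hq, j, hj, rfl⟩ := fin_spl a
  exact mul_mem ((BD.of (by decide +kernel) : AllN 243 fun q => el (243 * q) ∈ Cz z2 →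
    el (243 * q) ∈ Cz z3 → el (243 * q) ∈ C3) q hq (fin_Cz (BD.of (by decide +kernel)) hj h2)
    (fin_Cz (BD.of (by decide +kernel)) hj h3)) (L_mono (k := 5) (m := 7) (by norm_num) hj)

theorem C3_cube {a : G} (ha : a ∈ C3) : a ^ 3 ∈ Z1 := (fin_cube a ha).1

theorem C4_of_cube {a : G} (ha : a ∈ C3) (h : a ^ 3 = 1) : a ∈ C4 := (fin_cube a ha).2 h

/-- `Z(E1) = Z2` -/
theorem mem_Z2_of {a : G} (ha : a ∈ E1) (h : ∀ b ∈ E1, b * a = a * b) : a ∈ Z2 := by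
  have k : j5 ∈ E1 ∧ z4 ∈ E1 ∧ z3 ∈ E1 ∧ z2 ∈ E1 ∧ e3 ∈ E1 ∧ e2 ∈ E1 ∧ e0 ∈ E1 ∧ e1 ∈ E1 :=
    BD.of (by decide +kernel)
  obtain ⟨k1, k2, k3, k4, k5, k6, k7, k8⟩ := k
  have _ := ha
  exact (BD.of (by decide +kernel) : ∀ u ∈ J, e3 ∈ Cz u → e2 ∈ Cz u → e0 ∈ Cz u → e1 ∈ Cz u → u ∈ Z2) a
    (fin_J (mem_Cz.2 (h _ k1).symm) (mem_Cz.2 (h _ k2).symm) (mem_Cz.2 (h _ k3).symm)
      (mem_Cz.2 (h _ k4).symm))
    (mem_Cz.2 (h _ k5)) (mem_Cz.2 (h _ k6)) (mem_Cz.2 (h _ k7)) (mem_Cz.2 (h _ k8))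

/-- `Z₂(E1) = J` (test with `e3, e2, e0, e1`) -/
theorem mem_J_of {a : G} (ha : a ∈ E1) (h : ∀ b ∈ E1, ⁅a, b⁆ ∈ Z2) : a ∈ J := by
  obtain ⟨q, hq, j, hj, rfl⟩ := fin_spl a
  have k : e3 ∈ E1 ∧ e2 ∈ E1 ∧ e0 ∈ E1 ∧ e1 ∈ E1 := BD.of (by decide +kernel)
  have k' : ∀ b ∈ E1, ⁅el (243 * q), b⁆ ∈ Z2 := fun b hb =>
    mem_Cm.1 ((mul_mem_cancel_right (mem_Cm.2 (comm_J hj hb))).1 (mem_Cm.2 (h b hb)))
  exact mul_mem ((BD.of (by decide +kernel) : AllN 243 fun q => el (243 * q) ∈ E1 →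
    ⁅el (243 * q), e3⁆ ∈ Z2 → ⁅el (243 * q), e2⁆ ∈ Z2 → ⁅el (243 * q), e0⁆ ∈ Z2 →
    ⁅el (243 * q), e1⁆ ∈ Z2 → el (243 * q) ∈ J) q hq
    ((mul_mem_cancel_right (L_mono (k := 5) (m := 9) (by norm_num) hj)).1 ha)
    (k' _ k.1) (k' _ k.2.1) (k' _ k.2.2.1) (k' _ k.2.2.2)) hj

/-- an endomorphism of `E1` onto `E1` preserves `Z2` and `J` -/
theorem mapZ2 {f : G → G} (hf : HomOn E1 f) (hi : img E1 f = E1) {x : G} (hx : x ∈ Z2) : f x ∈ Z2 := by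
  have hx' : x ∈ E1 := L_mono (k := 2) (m := 9) (by norm_num) hx
  refine mem_Z2_of (hi ▸ Subgroup.subset_closure ⟨x, hx', rfl⟩) fun b hb => mem_Cz.1 (?_ : b ∈ Cz (f x))
  rw [← hi] at hb
  refine (Subgroup.closure_le (Cz (f x))).2 ?_ hb
  rintro _ ⟨c, hc, rfl⟩
  exact mem_Cz.2 (by rw [← hf c hc x hx', ← hf x hx' c hc, Z2_comm hx hc])

theorem mapJ {f : G → G} (hf : HomOn E1 f) (hi : img E1 f = E1) {x : G} (hx : x ∈ J) : f x ∈ J := by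
  have hx' : x ∈ E1 := L_mono (k := 5) (m := 9) (by norm_num) hx
  refine mem_J_of (hi ▸ Subgroup.subset_closure ⟨x, hx', rfl⟩) fun b hb =>
    fin_sw (mem_Cm.1 (?_ : b ∈ Cm Z2 (f x)))
  rw [← hi] at hb
  refine (Subgroup.closure_le (Cm Z2 (f x))).2 ?_ hb
  rintro _ ⟨c, hc, rfl⟩
  have e : f ⁅c, x⁆ = ⁅f c, f x⁆ := map_commutatorElement hf.toHom ⟨c, hc⟩ ⟨x, hx'⟩
  exact mem_Cm.2 (e ▸ mapZ2 hf hi (fin_sw (comm_J hx hc)))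

/-- the factors `L (k+1) / L k` have order three (cardinalities: `L k < T ⊓ L (k+1)`) -/
theorem step {k : ℕ} {T : Subgroup G} (hk : k < 10) (h : L k ≤ T) {u : G} (hu : u ∈ T) (h1 : u ∈ L (k + 1))
    (h2 : u ∉ L k) : L (k + 1) ≤ T := fin_step hk h hu h1 h2

theorem step_C4 {T : Subgroup G} (h : J ≤ T) {u : G} (hu : u ∈ T) (h1 : u ∈ C4) (h2 : u ∉ J) : C4 ≤ T := by
  refine fin_C4_le h ?_
  rcases C4_cos h1 with k | k | k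
  exacts [absurd k h2, (mul_mem_cancel_right hu).1 (h k), inv_mem_iff.1 ((mul_mem_cancel_right hu).1 (h k))]

theorem step_C3 {T : Subgroup G} (h : C4 ≤ T) {u : G} (hu : u ∈ T) (h1 : u ∈ C3) (h2 : u ∉ C4) : C3 ≤ T := by
  have he : e1 ∈ T := by
    obtain ⟨q, hq, j, hj, rfl⟩ := fin_spl u
    have := (BD.of (by decide +kernel) : AllN 243 fun q => el (243 * q) ∈ C3 →
      el (243 * q) ∈ C4 ∨ e1 * el (243 * q) ∈ C4 ∨ e1⁻¹ * el (243 * q) ∈ C4) q hq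
      ((mul_mem_cancel_right (L_mono (k := 5) (m := 7) (by norm_num) hj)).1 h1)
    have ht := (mul_mem_cancel_right (h (J_le_C4 hj))).1 hu
    rcases this with k | k | k
    exacts [absurd (mul_mem k (J_le_C4 hj)) h2, (mul_mem_cancel_right ht).1 (h k),
      inv_mem_iff.1 ((mul_mem_cancel_right ht).1 (h k))]
  refine le_of_gens fun g hg hk => ?_
  rcases (BD.of (by decide +kernel) : ∀ g ∈ pcs, g ∈ C3 → g ∈ C4 ∨ g = e1) g hg hk with k | rfl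
  exacts [h k, he]

theorem ystep4 {u : G} (h : u ∈ Z4) (h' : u ∉ Z3) : ⁅u, y⁆ ∈ Z3 ∧ ⁅u, y⁆ ∉ Z2 :=
  (BD.of (by decide +kernel) : ∀ u ∈ Z4, u ∉ Z3 → ⁅u, y⁆ ∈ Z3 ∧ ⁅u, y⁆ ∉ Z2) u h h'

theorem ystep5 {u : G} (h : u ∈ J) (h' : u ∉ Z4) : ⁅u, y⁆ ∈ Z4 ∧ ⁅u, y⁆ ∉ Z3 :=
  (BD.of (by decide +kernel) : ∀ u ∈ J, u ∉ Z4 → ⁅u, y⁆ ∈ Z4 ∧ ⁅u, y⁆ ∉ Z3) u h h'

theorem ystep8 {u : G} (h : u ∈ Z6) (h' : u ∉ C3) : ⁅u, y⁆ ∈ C3 ∧ ⁅u, y⁆ ∉ C4 := by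
  obtain ⟨q, hq, j, hj, rfl⟩ := fin_spl u
  have J3 : J ≤ C3 := L_mono (by norm_num)
  rw [fin_cy J3 hj, fin_cy J_le_C4 hj]
  exact (BD.of (by decide +kernel) : AllN 243 fun q => el (243 * q) ∈ Z6 → el (243 * q) ∉ C3 →
    ⁅el (243 * q), y⁆ ∈ C3 ∧ ⁅el (243 * q), y⁆ ∉ C4) q hq
    ((mul_mem_cancel_right (L_mono (k := 5) (m := 8) (by norm_num) hj)).1 h)
    fun c => h' (mul_mem c (J3 hj))

theorem ystep9 {u : G} (h : u ∈ E1) (h' : u ∉ Z6) : ⁅u, y⁆ ∈ Z6 ∧ ⁅u, y⁆ ∉ C3 := by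
  obtain ⟨q, hq, j, hj, rfl⟩ := fin_spl u
  have J3 : J ≤ C3 := L_mono (by norm_num)
  have J6 : J ≤ Z6 := L_mono (by norm_num)
  rw [fin_cy J3 hj, fin_cy J6 hj]
  exact (BD.of (by decide +kernel) : AllN 243 fun q => el (243 * q) ∈ E1 → el (243 * q) ∉ Z6 →
    ⁅el (243 * q), y⁆ ∈ Z6 ∧ ⁅el (243 * q), y⁆ ∉ C3) q hq
    ((mul_mem_cancel_right (L_mono (k := 5) (m := 9) (by norm_num) hj)).1 h)
    fun c => h' (mul_mem c (J6 hj))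

theorem mem_W0 {w : G} : w ∈ W0 ↔ ∃ i ∈ [0, 1, 2], ∃ j ∈ [0, 1, 2], w = z3 ^ i * z1 ^ j :=
  ⟨fun h => (BD.of (by decide +kernel) : ∀ w ∈ Z3, w ∈ W0 →
    ∃ i ∈ [0, 1, 2], ∃ j ∈ [0, 1, 2], w = z3 ^ i * z1 ^ j) w h.1 h, by
    have k : z3 ∈ W0 ∧ z1 ∈ W0 := BD.of (by decide +kernel)
    rintro ⟨i, -, j, -, rfl⟩
    exact mul_mem (pow_mem k.1 i) (pow_mem k.2 j)⟩

theorem card_W0 : Nat.card W0 = 9 := (card_count (· ∈ W0)).trans (by decide +kernel)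

/-- `E2 = N(W0)` -/
theorem mem_E2 {a : G} : a ∈ E2 ↔ ⁅z3, a⁆ ∈ Z1 := by
  have k : z3 ∈ W0 ∧ z1 ∈ W0 ∧ z3 ∈ Z3 ∧ z1 ∈ Z1 := BD.of (by decide +kernel)
  constructor
  · intro h
    refine (BD.of (by decide +kernel) : ∀ w ∈ Z2, w ∈ W0 → w ∈ Z1) _
      (fin_cm (k := 3) (m := 10) (n := 2) (BD.of (by decide +kernel)) k.2.2.1 a.lt) ?_
    have := mul_mem k.1 ((Subgroup.mem_normalizer_iff.1 h _).1 (inv_mem k.1))
    simpa only [commutatorElement_def, mul_assoc] using this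
  · intro h
    refine Subgroup.mem_normalizer_fintype fun w hw => ?_
    obtain ⟨i, -, j, -, rfl⟩ := mem_W0.1 hw
    have h1 : a * z3 * a⁻¹ ∈ W0 := by
      have := mul_mem ((BD.of (by decide +kernel) : ∀ w ∈ Z1, w ∈ W0) _ (fin_sw h)) k.1
      rwa [commutatorElement_def, inv_mul_cancel_right] at this
    have h2 : a * z1 * a⁻¹ ∈ W0 := by rw [Z1_comm k.2.2.2 a, mul_inv_cancel_right]; exact k.2.1
    rw [← conj_mul, ← conj_pow, ← conj_pow]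
    exact mul_mem (pow_mem h1 i) (pow_mem h2 j)

instance bdE2 (a : G) {b : Bool} [h : BD (⁅z3, a⁆ ∈ Z1) b] : BD (a ∈ E2) b := ⟨h.h.trans mem_E2.symm⟩

theorem Z6_le_E2 : Z6 ≤ E2 := le_of_gens (BD.of (by decide +kernel))

/-- (e.g. `E2 ≠ ⊤` as `e3 ∉ E2`, `Z6 < E2` as `y ∈ E2`, orders divide) -/
theorem card_E2 : Nat.card E2 = 19683 := by
  have k : y ∈ E2 ∧ y ∉ Z6 ∧ e3 ∉ E2 := BD.of (by decide +kernel)
  have h1 : Nat.card E2 ∣ 3 ^ 10 := (show Nat.card G = 3 ^ 10 from card_G) ▸ E2.card_subgroup_dvd_card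
  obtain ⟨m, hm, e⟩ := (Nat.dvd_prime_pow Nat.prime_three).1 h1
  have h2 : ¬ Nat.card E2 ≤ Nat.card Z6 := fun c =>
    k.2.1 (Subgroup.eq_of_le_of_card_ge Z6_le_E2 c ▸ k.1)
  have h3 : ¬ Nat.card (L 10) ≤ Nat.card E2 := fun c =>
    k.2.2 ((Subgroup.eq_of_le_of_card_ge (H := E2) (K := L 10) (fun x _ => x.lt) c).symm ▸ e3.lt)
  rw [card_L (by norm_num), e, Nat.pow_le_pow_iff_right (by norm_num)] at h2 h3
  rw [e, show m = 9 by omega]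
  norm_num

/-- for `u ∈ Z3 \ Z2`: `u = z3^{±1} w`, `w ∈ Z2`, and `⁅w, a⁆ ∈ Z1` always -/
theorem mem_E2_of {u a : G} (h : u ∈ Z3) (h' : u ∉ Z2) (ha : ⁅u, a⁆ ∈ Z1) : a ∈ E2 :=
  mem_E2.2 (mem_Cm.1 (step (k := 2) (T := Cm Z1 a) (by norm_num) (fun _ hw => mem_Cm.2 (comm_Z2 hw a))
    (mem_Cm.2 ha) h h' (BD.of (by decide +kernel))))

/-- three elements of `Z2` are dependent -/
theorem not_ind {a b c : G} (ha : a ∈ Z2) (hb : b ∈ Z2) (hc : c ∈ Z2) : ¬ Ind a b c :=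
  (BD.of (by decide +kernel) : ∀ a ∈ Z2, ∀ b ∈ Z2, ∀ c ∈ Z2, ¬ Ind a b c) a ha b hb c hc

theorem Ty.mem_Z3 {x : G} (h : Ty R1 x) : x ∈ Z3 ∧ x ∉ Z2 := by
  obtain ⟨r, hr, h⟩ := h
  rw [h.mem_iff, h.mem_iff]
  exact (BD.of (by decide +kernel) : ∀ r ∈ R1, el r ∈ Z3 ∧ el r ∉ Z2) r hr
theorem Ty.mem_J {x : G} (h : Ty R2 x) : x ∈ J ∧ x ∉ Z3 := by
  obtain ⟨r, hr, h⟩ := h
  rw [h.mem_iff, h.mem_iff]
  exact (BD.of (by decide +kernel) : ∀ r ∈ R2, el r ∈ J ∧ el r ∉ Z3) r hr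
theorem Ty.not_J3 {x : G} (h : Ty R3 x) : x ∉ J := by
  obtain ⟨r, hr, h⟩ := h
  rw [h.mem_iff]
  exact (BD.of (by decide +kernel) : ∀ r ∈ R3, el r ∉ J) r hr
theorem Ty.not_J4 {x : G} (h : Ty R4 x) : x ∉ J := by
  obtain ⟨r, hr, h⟩ := h
  rw [h.mem_iff]
  exact (BD.of (by decide +kernel) : ∀ r ∈ R4, el r ∉ J) r hr
theorem Ty.not_J5 {x : G} (h : Ty R5 x) : x ∉ J := by
  obtain ⟨r, hr, h⟩ := h
  rw [h.mem_iff]
  exact (BD.of (by decide +kernel) : ∀ r ∈ R5, el r ∉ J) r hr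
theorem Ty.not_E1 {x : G} (h : Ty R6 x) : x ∉ E1 := by
  obtain ⟨r, hr, h⟩ := h
  rw [h.mem_iff]
  exact (BD.of (by decide +kernel) : ∀ r ∈ R6, el r ∉ E1) r hr

end Cfsg.Agent.T3F
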